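import Cfsg.Agent.H357.EP.Signs_m3
import Cfsg.Agent.H341.ThreeList_m3
import Mathlib
import Cfsg.Agent.SB.Exc.CI.Main_m3
import Cfsg.Agent.ChevFast.Lin
import Cfsg.Agent.FastGrp
import Cfsg.Agent.Prune
set_option linter.all false

-- part: TH/Ex/Si/Tab
section
set_option linter.all false
open scoped Cfsg.Agent.FastGrp

-- part: TH/Ex/Si/Num
section
/-!
# S3541, `H ⊓ T` almost simple in `F₄, E₆, ²E₆, E₇, E₈`: the numerical test (helper64)

`Cond Y p f O t k d` : `O = |T|`, `t = |N|`, `t k = |H ⊓ T|`, `d` the subdegree.  `chkT Y t l ou G` : the kernel test for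
one group `N` of order `t` (characteristic `l`, `k ∣ ou`) and all `q`; `Cond.dvd_of_chk`.
-/

set_option autoImplicit false

namespace Cfsg.Agent.TH.Ex.Si

open Cfsg.Agent.H902 Cfsg.Agent.H290.ElTab Cfsg.Agent.H290.ElCross Cfsg.Agent.H252.EN

/-- the families -/
def Zs : List Art.Sh := [.F4, .E6, .TE6, .E7, .E8]

/-- the degrees with their signs, without the degree 2 -/
def dg' : Art.Sh → List (ℕ × Bool)
  | .F4 => [(6, false), (8, false), (12, false)]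
  | .E6 => [(5, false), (6, false), (8, false), (9, false), (12, false)]
  | .TE6 => [(5, true), (6, false), (8, false), (9, true), (12, false)]
  | .E7 => [(6, false), (8, false), (10, false), (12, false), (14, false), (18, false)]
  | .E8 => [(8, false), (12, false), (14, false), (18, false), (20, false), (24, false), (30, false)]
  | _ => []

/-- the degrees with their signs -/
def dg (Y : Art.Sh) : List (ℕ × Bool) := (2, false) :: dg' Y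

/-- a factor of the order -/
def fk (x : ℕ) (c : ℕ × Bool) : ℕ := cond c.2 (x ^ c.1 + 1) (x ^ c.1 - 1)

/-- the bound for the centralizers of the semisimple elements of prime order -/
def bY : Art.Sh → ℕ → ℕ
  | .F4, q => q ^ (if q % 2 = 0 then 18 else 32) * (q + 1) ^ 4
  | .E7, q => 2 * (q ^ 72 * (q + 1) ^ 7)
  | .E8, q => q ^ 128 * (q + 1) ^ 8
  | _, q => q ^ 40 * (q + 1) ^ 6

/-- the same, with the elements of order 5 in `²E₆(2)` -/
def bS (Y : Art.Sh) (q s : ℕ) : ℕ := if Y = .TE6 ∧ q = 2 ∧ s = 5 then 100800 else bY Y q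

/-- `q ^ e1` is a lower bound for the indices of the proper subgroups -/
def e1 : Art.Sh → ℕ
  | .F4 => 8
  | .E7 => 17
  | .E8 => 29
  | _ => 11

/-- `q ^ e2 / kk` is a lower bound for the semisimple classes -/
def e2 : Art.Sh → ℕ
  | .F4 => 16
  | .E7 => 54
  | .E8 => 112
  | _ => 32

/-- see `e2` -/
def kk : Art.Sh → ℕ
  | .F4 => 8
  | .E7 => 128
  | _ => 64

/-- a bound for the number of elements of order `s` -/
def cnt (t k s : ℕ) : ℕ := if k % s = 0 then t * k else if t % (s * s) = 0 then t else t - t / s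

/-- the necessary conditions -/
structure Cond (Y : Art.Sh) (p f O t k d : ℕ) : Prop where
  real : Art.Real Y p f O
  opos : 0 < O
  dvd : t * k ∣ O
  d_dvd : d ∣ O / (t * k) - 1
  nd : ¬ p ∣ d
  fac : t ∣ (Nat.gcd t d).factorial
  ss : ∀ s, s.Prime → s ∣ t → ¬ s ∣ d → s ≠ p → O ≤ Nat.gcd t d * cnt t k s * bS Y (p ^ f) s
  un : p ∣ t → (p ^ f) ^ e1 Y ≤ Nat.gcd t d * (t * k)

/-! ### the test -/

/-- `f i` for `i = lo, lo + 1, …` until `stop i` -/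
def allU (stop f : ℕ → Bool) (fuel : ℕ) : ℕ → Bool :=
  Nat.rec (motive := fun _ => ℕ → Bool) (fun _ => false) (fun _ ih i => stop i || (f i && force (Nat.succ i) ih)) fuel

/-- no `q ≡ x` modulo `R` gives the same power of `r` in `|T|` and in `|H ⊓ T|` -/
def nvN (Y : Art.Sh) (r t B R x : ℕ) : Bool :=
  force ((dg Y).map fun c => Nat.gcd (fk x c) R).prod fun P => force (Nat.gcd (Art.dd Y x) r) fun D =>
    D * B % P != 0 || (((dg Y).all fun c => fk x c % R != 0) && D * t % (r * P) == 0)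

/-- the same, refining the modulus -/
def nvR (Y : Art.Sh) (r t B fuel : ℕ) : ℕ → ℕ → Bool :=
  Nat.rec (motive := fun _ => ℕ → ℕ → Bool) (fun _ _ => false)
    (fun _ ih R x => nvN Y r t B R x || force (R * r) fun R' => (List.range r).all fun j => force (x + R * j) (ih R'))
    fuel

/-- the prime `r` does not divide the subdegree -/
def nv (Y : Art.Sh) (r t B : ℕ) : Bool := (List.range r).all fun x => x == 0 || nvR Y r t B 20 r x

/-- the test for `|H ⊓ T| = t k`, `|T| = O` -/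
def dead (Y : Art.Sh) (q t k G O : ℕ) : Bool :=
  O % (t * k) != 0 || force (O / (t * k) - 1) fun n => force (Nat.gcd t n) fun g =>
    G % g == 0 || ((Nat.ble g 100 && g.factorial % t != 0) ||
      prs.any fun s => t % s == 0 && (n % s != 0 && (q % s != 0 && Nat.blt (g * cnt t k s * bS Y q s) O)))

/-- the test for one `q` -/
def deadQ (Y : Art.Sh) (t l ou G q : ℕ) : Bool :=
  q % l == 0 || force (q ^ Art.NN Y * Art.num Y q / Art.dd Y q) fun O =>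
    O % t != 0 || (List.range ou).all fun k => ou % (k + 1) != 0 || dead Y q t (k + 1) G O

/-- the primes which do not divide the subdegree are removed from `g` -/
def strip (Y : Art.Sh) (t B : ℕ) (F : ℕ → ℕ → Bool) : List ℕ → ℕ → ℕ → Bool
  | [], s, g => F s g
  | r :: L, s, g => cond (t % r == 0 && nv Y r t B) (force (g / Nat.gcd g (r ^ 100)) (strip Y t B F L r))
      (strip Y t B F L s g)

/-- the small primes -/
def sm : List ℕ := [2, 3, 5, 7, 11, 13, 17, 19, 23, 29, 31, 37, 41, 43, 47, 53, 59, 61, 67, 71, 73, 79]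

/-- the test for one group -/
def chkT (Y : Art.Sh) (t l ou G : ℕ) : Bool :=
  force t fun t => force ou fun ou => force (t * ou) fun B =>
    strip Y t B (fun s g => s != 0 && force (g * B) fun C => force (kk Y * C) fun C' =>
      allU (fun q => Nat.blt C' (q ^ e2 Y)) (deadQ Y t l ou G) 100000 2 &&
        allU (fun f => Nat.blt C ((s ^ f) ^ e1 Y)) (fun f => force (s ^ f) (deadQ Y t l ou G)) 1000 1) sm 0 t

/-! ### soundness -/

theorem allU_sound {stop f : ℕ → Bool} {fuel lo : ℕ} (h : allU stop f fuel lo = true) {i : ℕ} (h1 : lo ≤ i)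
    (h2 : ∀ j, j ≤ i → stop j = false) : f i = true := by
  induction fuel generalizing lo with
  | zero => exact absurd h Bool.false_ne_true
  | succ k ih =>
    have h3 : (stop lo || (f lo && force (Nat.succ lo) (allU stop f k))) = true := h
    rw [h2 lo h1, Bool.false_or, Bool.and_eq_true, force_eq] at h3
    rcases Nat.eq_or_lt_of_le h1 with rfl | h4
    · exact h3.1
    · exact ih h3.2 h4

theorem num_eq {Y : Art.Sh} (hY : Y ∈ Zs) (q : ℕ) : Art.num Y q = ((dg Y).map (fk q)).prod := by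
  simp only [Zs, List.mem_cons, List.not_mem_nil, or_false] at hY
  rcases hY with rfl | rfl | rfl | rfl | rfl <;>
    simp only [Art.num, dg, dg', fk, List.map_cons, List.map_nil, List.prod_cons, List.prod_nil, cond_true,
      cond_false, mul_one, mul_assoc]

theorem fk_modEq {q x R : ℕ} (hq : 1 ≤ q) (hx : 1 ≤ x) (h : x ≡ q [MOD R]) (c : ℕ × Bool) :
    fk x c ≡ fk q c [MOD R] := by
  obtain ⟨k, b⟩ := c
  cases b
  · exact Nat.ModEq.sub (Nat.one_le_pow _ _ hx) (Nat.one_le_pow _ _ hq) (h.pow k) rfl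
  · exact (h.pow k).add_right 1

theorem prod_gcd_dvd (L : List ℕ) (R : ℕ) : (L.map fun a => Nat.gcd a R).prod ∣ L.prod := by
  induction L with
  | nil => simp
  | cons a L ih =>
    rw [List.map_cons, List.prod_cons, List.prod_cons]
    exact mul_dvd_mul (Nat.gcd_dvd_left _ _) ih

theorem prod_gcd_coprime (L : List ℕ) {R n : ℕ} (h : Nat.Coprime R n) :
    Nat.Coprime (L.map fun a => Nat.gcd a R).prod n := by
  induction L with
  | nil => simp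
  | cons a L ih =>
    rw [List.map_cons, List.prod_cons]
    exact Nat.Coprime.mul_left (h.coprime_dvd_left (Nat.gcd_dvd_right _ _)) ih

theorem exists_of_not_dvd {r i a : ℕ} (hr : r.Prime) (h : ¬ r ^ i ∣ a) : ∃ m, a = Nat.gcd a (r ^ i) * m ∧ ¬ r ∣ m := by
  obtain ⟨m, hm⟩ := Nat.gcd_dvd_left a (r ^ i)
  refine ⟨m, hm, fun h1 => ?_⟩
  obtain ⟨j, hj, h2⟩ := (Nat.dvd_prime_pow hr).1 (Nat.gcd_dvd_right a (r ^ i))
  rcases Nat.eq_or_lt_of_le hj with rfl | h3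
  · exact h (h2 ▸ Nat.gcd_dvd_left a _)
  · have h4 : r ^ (j + 1) ∣ a := by
      rw [hm, h2, pow_succ]
      exact Nat.mul_dvd_mul_left _ h1
    have h5 := Nat.dvd_gcd h4 (pow_dvd_pow r h3)
    rw [h2] at h5
    have := (Nat.pow_dvd_pow_iff_le_right hr.one_lt).1 h5
    omega

theorem exists_prod {r i : ℕ} (hr : r.Prime) (L : List ℕ) (h : ∀ a ∈ L, ¬ r ^ i ∣ a) :
    ∃ m, L.prod = (L.map fun a => Nat.gcd a (r ^ i)).prod * m ∧ ¬ r ∣ m := by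
  induction L with
  | nil => exact ⟨1, by simp, hr.one_lt.ne' ∘ Nat.dvd_one.1⟩
  | cons a L ih =>
    obtain ⟨m, h1, h2⟩ := ih fun b hb => h b (List.mem_cons_of_mem _ hb)
    obtain ⟨m', h3, h4⟩ := exists_of_not_dvd hr (h a List.mem_cons_self)
    refine ⟨m' * m, ?_, fun h5 => ((Nat.Prime.dvd_mul hr).1 h5).elim h4 h2⟩
    rw [List.map_cons, List.prod_cons, List.prod_cons]
    calc a * L.prod = (Nat.gcd a (r ^ i) * m') * ((L.map fun a => Nat.gcd a (r ^ i)).prod * m) := by rw [← h1, ← h3]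
      _ = _ := by ring

theorem gcd_split {c r a b : ℕ} (hc : c.Prime) (hr : r.Prime) (h : a ≡ b [MOD r]) :
    ∃ D, Nat.gcd c b = Nat.gcd (Nat.gcd c a) r * D ∧ Nat.Coprime r D := by
  by_cases h1 : r = c
  · subst h1
    refine ⟨1, ?_, Nat.coprime_one_right _⟩
    rw [mul_one, Nat.gcd_eq_left (Nat.gcd_dvd_left r a), Nat.gcd_comm, Nat.gcd_comm r a]
    exact h.gcd_eq.symm
  · have h2 : Nat.Coprime c r := (Nat.coprime_primes hc hr).2 (Ne.symm h1)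
    refine ⟨Nat.gcd c b, ?_, (h2.coprime_dvd_left (Nat.gcd_dvd_left c b)).symm⟩
    rw [show Nat.gcd (Nat.gcd c a) r = 1 from h2.coprime_dvd_left (Nat.gcd_dvd_left c a), one_mul]

theorem dd_split {Y : Art.Sh} (hY : Y ∈ Zs) {r x q : ℕ} (hr : r.Prime) (hq : 1 ≤ q) (hx : 1 ≤ x)
    (h : x ≡ q [MOD r]) : ∃ D, Art.dd Y q = Nat.gcd (Art.dd Y x) r * D ∧ Nat.Coprime r D := by
  simp only [Zs, List.mem_cons, List.not_mem_nil, or_false] at hY
  rcases hY with rfl | rfl | rfl | rfl | rfl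
  · exact ⟨1, by simp [Art.dd], Nat.coprime_one_right _⟩
  · exact gcd_split Nat.prime_three hr (Nat.ModEq.sub hx hq h rfl)
  · exact gcd_split Nat.prime_three hr (h.add_right 1)
  · exact gcd_split Nat.prime_two hr (Nat.ModEq.sub hx hq h rfl)
  · exact ⟨1, by simp [Art.dd], Nat.coprime_one_right _⟩

section nv

variable {Y : Art.Sh} (hY : Y ∈ Zs) {r t k ou q n : ℕ} (hr : r.Prime) (hq : ¬ r ∣ q) (hk : k ∣ ou)
  (hO : Art.dd Y q * (t * k * n) = q ^ Art.NN Y * Art.num Y q) (hn : ¬ r ∣ n)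

include hY hr hq hk hO hn

theorem nvN_false {i : ℕ} : nvN Y r t (t * ou) (r ^ (i + 1)) (q % r ^ (i + 1)) = false := by
  have hR : r ∣ r ^ (i + 1) := dvd_pow_self r i.succ_ne_zero
  have hq1 : 1 ≤ q := Nat.pos_of_ne_zero fun h => hq (h ▸ dvd_zero r)
  have hm : q % r ^ (i + 1) ≡ q [MOD r ^ (i + 1)] := Nat.mod_modEq _ _
  have hx : 1 ≤ q % r ^ (i + 1) := Nat.pos_of_ne_zero fun h => hq (hR.trans (Nat.dvd_of_mod_eq_zero h))
  obtain ⟨D', h1, h2⟩ := dd_split hY hr hq1 hx (hm.of_dvd hR)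
  have h3 : ((dg Y).map fun c => Nat.gcd (fk (q % r ^ (i + 1)) c) (r ^ (i + 1))) =
      ((dg Y).map (fk q)).map fun a => Nat.gcd a (r ^ (i + 1)) := by
    rw [List.map_map]
    exact List.map_congr_left fun c _ => (fk_modEq hq1 hx hm c).gcd_eq
  have hrq : Nat.Coprime r q := hr.coprime_iff_not_dvd.2 hq
  have hrn : Nat.Coprime r n := hr.coprime_iff_not_dvd.2 hn
  rw [nvN, force_eq, force_eq, h3]
  rw [h1, num_eq hY] at hO
  generalize Nat.gcd (Art.dd Y (q % r ^ (i + 1))) r = D at *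
  rw [Bool.or_eq_false_iff, Bool.and_eq_false_iff]
  constructor
  · have h4 := (prod_gcd_dvd ((dg Y).map (fk q)) (r ^ (i + 1))).mul_left (q ^ Art.NN Y)
    rw [← hO, show D * D' * (t * k * n) = D * (t * k) * (D' * n) by ring] at h4
    have h5 := (prod_gcd_coprime _ ((h2.mul_right hrn).pow_left (i + 1))).dvd_of_dvd_mul_right h4
    rw [Nat.mod_eq_zero_of_dvd (h5.trans (Nat.mul_dvd_mul_left _ (Nat.mul_dvd_mul_left _ hk)))]
    rfl
  · by_contra h4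
    rw [not_or, Bool.not_eq_false, Bool.not_eq_false, List.all_eq_true, beq_iff_eq] at h4
    obtain ⟨m, h5, h6⟩ := exists_prod (i := i + 1) hr ((dg Y).map (fk q)) fun a ha h => by
      obtain ⟨c, hc, rfl⟩ := List.mem_map.1 ha
      have h7 := h4.1 c hc
      rw [(fk_modEq hq1 hx hm c : _ = _), Nat.mod_eq_zero_of_dvd h] at h7
      exact absurd h7 (by decide)
    have h7 := Nat.dvd_of_mod_eq_zero h4.2
    have h0 : 0 < (((dg Y).map (fk q)).map fun a => Nat.gcd a (r ^ (i + 1))).prod :=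
      List.prod_pos fun a ha => by
        obtain ⟨b, -, rfl⟩ := List.mem_map.1 ha
        exact Nat.gcd_pos_of_pos_right _ (pow_pos hr.pos _)
    rw [h5] at hO
    generalize (((dg Y).map (fk q)).map fun a => Nat.gcd a (r ^ (i + 1))).prod = P at *
    have h8 : r * P ∣ q ^ Art.NN Y * m * P := by
      rw [show q ^ Art.NN Y * m * P = q ^ Art.NN Y * (P * m) by ring, ← hO,
        show D * D' * (t * k * n) = D * t * (D' * k * n) by ring]
      exact h7.mul_right _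
    exact h6 ((hrq.pow_right _).dvd_of_dvd_mul_left (Nat.dvd_of_mul_dvd_mul_right h0 h8))

theorem nvR_false (fuel i : ℕ) : nvR Y r t (t * ou) fuel (r ^ (i + 1)) (q % r ^ (i + 1)) = false := by
  induction fuel generalizing i with
  | zero => rfl
  | succ a ih =>
    show (nvN Y r t (t * ou) (r ^ (i + 1)) (q % r ^ (i + 1)) || force (r ^ (i + 1) * r) fun R' =>
      (List.range r).all fun j => force (q % r ^ (i + 1) + r ^ (i + 1) * j) (nvR Y r t (t * ou) a R')) = false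
    rw [nvN_false hY hr hq hk hO hn, Bool.false_or, force_eq, List.all_eq_false]
    refine ⟨q / r ^ (i + 1) % r, List.mem_range.2 (Nat.mod_lt _ hr.pos), ?_⟩
    rw [force_eq, ← Nat.mod_mul, ← pow_succ, ih]
    exact Bool.false_ne_true

theorem nv_false : nv Y r t (t * ou) = false := by
  rw [nv, List.all_eq_false]
  refine ⟨q % r, List.mem_range.2 (Nat.mod_lt _ hr.pos), ?_⟩
  have h1 := nvR_false hY hr hq hk hO hn 20 0
  rw [zero_add, pow_one] at h1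
  rw [h1, Bool.or_false, beq_iff_eq]
  exact fun h => hq (Nat.dvd_of_mod_eq_zero h)

end nv

/-! ### the lower bound for the semisimple classes -/

theorem fk_ge {q : ℕ} (hq : 2 ≤ q) {c : ℕ × Bool} (hc : 5 ≤ c.1) : 31 * q ^ c.1 ≤ 32 * fk q c := by
  obtain ⟨k, b⟩ := c
  have h1 : 2 ^ 5 ≤ q ^ k := (Nat.pow_le_pow_left hq 5).trans (Nat.pow_le_pow_right (by omega) hc)
  cases b
  · show 31 * q ^ k ≤ 32 * (q ^ k - 1)
    omega
  · show 31 * q ^ k ≤ 32 * (q ^ k + 1)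
    omega

theorem prod_ge {q : ℕ} (hq : 2 ≤ q) (L : List (ℕ × Bool)) (h : ∀ c ∈ L, 5 ≤ c.1) :
    31 ^ L.length * q ^ (L.map Prod.fst).sum ≤ 32 ^ L.length * (L.map (fk q)).prod := by
  induction L with
  | nil => simp
  | cons c L ih =>
    have h1 := Nat.mul_le_mul (fk_ge hq (h c List.mem_cons_self)) (ih fun b hb => h b (List.mem_cons_of_mem _ hb))
    rw [List.length_cons, List.map_cons, List.map_cons, List.sum_cons, List.prod_cons]
    calc _ = 31 * q ^ c.1 * (31 ^ L.length * q ^ (L.map Prod.fst).sum) := by ring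
      _ ≤ _ := h1
      _ = _ := by ring

theorem low_gen {q c e u l N j S K P : ℕ} (hq : 2 ≤ q) (h1 : 31 ^ j * q ^ S ≤ 32 ^ j * P) (h2 : e + u + l = N + 2 + S)
    (h3 : c * 3 ^ l * 4 * 32 ^ j ≤ K * (2 ^ l * 3 * 31 ^ j)) :
    c * (q ^ e * (q ^ u * (q + 1) ^ l)) ≤ K * (q ^ N * ((q ^ 2 - 1) * P)) := by
  have h4 : (2 * (q + 1)) ^ l ≤ (3 * q) ^ l := Nat.pow_le_pow_left (by omega) l
  have h5 : 3 * q ^ 2 ≤ 4 * (q ^ 2 - 1) := by
    have : 2 ^ 2 ≤ q ^ 2 := Nat.pow_le_pow_left hq 2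
    omega
  refine Nat.le_of_mul_le_mul_left (c := 2 ^ l * 3 * 31 ^ j) ?_ (by positivity)
  calc _ = c * 3 * 31 ^ j * q ^ (e + u) * (2 * (q + 1)) ^ l := by rw [mul_pow 2]; ring
    _ ≤ c * 3 * 31 ^ j * q ^ (e + u) * (3 * q) ^ l := Nat.mul_le_mul_left _ h4
    _ = c * 3 * 31 ^ j * 3 ^ l * q ^ (e + u + l) := by ring
    _ = c * 3 ^ l * q ^ N * ((3 * q ^ 2) * (31 ^ j * q ^ S)) := by rw [h2]; ring
    _ ≤ c * 3 ^ l * q ^ N * ((4 * (q ^ 2 - 1)) * (32 ^ j * P)) := Nat.mul_le_mul_left _ (Nat.mul_le_mul h5 h1)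
    _ = c * 3 ^ l * 4 * 32 ^ j * (q ^ N * ((q ^ 2 - 1) * P)) := by ring
    _ ≤ K * (2 ^ l * 3 * 31 ^ j) * (q ^ N * ((q ^ 2 - 1) * P)) := Nat.mul_le_mul_right _ h3
    _ = _ := by ring

theorem low {Y : Art.Sh} (hY : Y ∈ Zs) {q : ℕ} (hq : 2 ≤ q) :
    Art.dd Y q * (q ^ e2 Y * bY Y q) ≤ kk Y * (q ^ Art.NN Y * Art.num Y q) := by
  rw [num_eq hY]
  have h := prod_ge hq (dg' Y) (by
    revert Y
    decide)
  simp only [Zs, List.mem_cons, List.not_mem_nil, or_false] at hY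
  rcases hY with rfl | rfl | rfl | rfl | rfl
  · refine le_trans ?_ (low_gen (c := 1) (e := 16) (u := 32) (l := 4) hq h (by decide) (by decide))
    refine Nat.mul_le_mul_left _ (Nat.mul_le_mul_left _ (Nat.mul_le_mul_right _ ?_))
    exact Nat.pow_le_pow_right (by omega) (by split_ifs <;> omega)
  · exact le_trans (Nat.mul_le_mul_right _ (Nat.gcd_le_left _ three_pos))
      (low_gen (c := 3) (e := 32) (u := 40) (l := 6) hq h (by decide) (by decide))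
  · exact le_trans (Nat.mul_le_mul_right _ (Nat.gcd_le_left _ three_pos))
      (low_gen (c := 3) (e := 32) (u := 40) (l := 6) hq h (by decide) (by decide))
  · refine le_trans ?_ (low_gen (c := 4) (e := 54) (u := 72) (l := 7) hq h (by decide) (by decide))
    refine le_trans (Nat.mul_le_mul_right _ (Nat.gcd_le_left _ two_pos)) (le_of_eq ?_)
    show 2 * (q ^ 54 * (2 * (q ^ 72 * (q + 1) ^ 7))) = _
    ring
  · exact low_gen (c := 1) (e := 112) (u := 128) (l := 8) hq h (by decide) (by decide)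

theorem bS_le (Y : Art.Sh) (q s : ℕ) : bS Y q s ≤ bY Y q := by
  unfold bS
  split_ifs with h
  · obtain ⟨rfl, rfl, -⟩ := h
    decide
  · exact le_rfl

theorem cnt_le {t k : ℕ} (hk : 0 < k) (s : ℕ) : cnt t k s ≤ t * k := by
  have := Nat.le_mul_of_pos_right t hk
  unfold cnt
  split_ifs
  · exact le_rfl
  · exact this
  · exact (Nat.sub_le _ _).trans this

namespace Cond

variable {Y : Art.Sh} {p f O t k d : ℕ} (c : Cond Y p f O t k d)

include c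

theorem tk_pos : 0 < t * k := Nat.pos_of_dvd_of_pos c.dvd c.opos

theorem t_pos : 0 < t := Nat.pos_of_mul_pos_right c.tk_pos

theorem k_pos : 0 < k := Nat.pos_of_mul_pos_left c.tk_pos

theorem two_le : 2 ≤ p ^ f := c.real.hp.two_le.trans (Nat.le_self_pow (by have := c.real.hf; omega) p)

theorem not_dvd_q {r : ℕ} (hr : r.Prime) (h : r ≠ p) : ¬ r ∣ p ^ f := fun h1 =>
  h ((Nat.prime_dvd_prime_iff_eq hr c.real.hp).1 (hr.dvd_of_dvd_pow h1))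

theorem not_dvd_d (hY : Y ∈ Zs) {r ou : ℕ} (hr : r.Prime) (hk : k ∣ ou) (h : nv Y r t (t * ou) = true) : ¬ r ∣ d := by
  by_cases h1 : r = p
  · exact h1 ▸ c.nd
  intro h2
  have h3 := c.real.eq
  rw [← Nat.mul_div_cancel' c.dvd] at h3
  have h4 : 0 < O / (t * k) := Nat.div_pos (Nat.le_of_dvd c.opos c.dvd) c.tk_pos
  have h5 : ¬ r ∣ O / (t * k) := fun h6 => by
    have h7 := Nat.dvd_sub h6 (h2.trans c.d_dvd)
    rw [Nat.sub_sub_self h4] at h7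
    exact hr.one_lt.ne' (Nat.dvd_one.1 h7)
  rw [nv_false hY hr (c.not_dvd_q hr h1) hk h3 h5] at h
  exact Bool.false_ne_true h

theorem dvd_of_dead {G : ℕ} (h : dead Y (p ^ f) t k G O = true) : Nat.gcd t d ∣ G := by
  have h1 : Nat.gcd t d ∣ Nat.gcd t (O / (t * k) - 1) := Nat.gcd_dvd_gcd_of_dvd_right _ c.d_dvd
  have h2 := Nat.le_of_dvd (Nat.gcd_pos_of_pos_left _ c.t_pos) h1
  rw [dead, force_eq, force_eq, Nat.mod_eq_zero_of_dvd c.dvd] at h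
  simp only [bne_self_eq_false, Bool.false_or, Bool.or_eq_true, Bool.and_eq_true, beq_iff_eq, List.any_eq_true,
    bne_iff_ne, Nat.blt_eq] at h
  rcases h with h | h | ⟨s, hs, h3, h4, h5, h6⟩
  · exact h1.trans (Nat.dvd_of_mod_eq_zero h)
  · exact absurd (Nat.mod_eq_zero_of_dvd (c.fac.trans (Nat.factorial_dvd_factorial h2))) h.2
  · have h7 := c.ss s (prs_prime s hs) (Nat.dvd_of_mod_eq_zero h3)
      (fun h8 => h4 (Nat.mod_eq_zero_of_dvd (h8.trans c.d_dvd))) fun h8 => h5 (Nat.mod_eq_zero_of_dvd (by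
        rw [h8]
        exact dvd_pow_self p (by have := c.real.hf; omega)))
    have h8 := Nat.mul_le_mul_right (bS Y (p ^ f) s) (Nat.mul_le_mul_right (cnt t k s) h2)
    omega

theorem dvd_of_deadQ {l ou G : ℕ} (hl : p ^ f % l ≠ 0) (hk : k ∣ ou) (h0 : 0 < ou)
    (h : deadQ Y t l ou G (p ^ f) = true) : Nat.gcd t d ∣ G := by
  have h1 : (p ^ f) ^ Art.NN Y * Art.num Y (p ^ f) / Art.dd Y (p ^ f) = O := by
    rw [← c.real.eq, Nat.mul_div_cancel_left _ (real_pos c.real)]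
  rw [deadQ, force_eq, h1, Nat.mod_eq_zero_of_dvd (Dvd.dvd.trans (Dvd.intro _ rfl) c.dvd)] at h
  simp only [bne_self_eq_false, Bool.false_or, Bool.or_eq_true, beq_iff_eq, List.all_eq_true, List.mem_range,
    bne_iff_ne] at h
  have h2 := c.k_pos
  have h3 := Nat.le_of_dvd h0 hk
  have h4 := (h.resolve_left hl) (k - 1) (by omega)
  rw [Nat.sub_add_cancel h2] at h4
  exact c.dvd_of_dead (h4.resolve_left fun h5 => h5 (Nat.mod_eq_zero_of_dvd hk))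

theorem of_strip (hY : Y ∈ Zs) {ou : ℕ} (hk : k ∣ ou) {F : ℕ → ℕ → Bool} (L : List ℕ) (hL : ∀ r ∈ L, r.Prime)
    {s g : ℕ} (hs : s = 0 ∨ (s.Prime ∧ s ∣ t ∧ ¬ s ∣ d)) (hg : Nat.gcd t d ∣ g) (h0 : 0 < g)
    (h : strip Y t (t * ou) F L s g = true) :
    ∃ s g, (s = 0 ∨ (s.Prime ∧ s ∣ t ∧ ¬ s ∣ d)) ∧ Nat.gcd t d ≤ g ∧ F s g = true := by
  induction L generalizing s g with
  | nil => exact ⟨s, g, hs, Nat.le_of_dvd h0 hg, h⟩
  | cons r L ih =>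
    have hL' : ∀ a ∈ L, a.Prime := fun a ha => hL a (List.mem_cons_of_mem _ ha)
    have hr := hL r List.mem_cons_self
    rw [strip] at h
    cases h1 : (t % r == 0 && nv Y r t (t * ou))
    · rw [h1, cond_false] at h
      exact ih hL' hs hg h0 h
    · rw [h1, cond_true, force_eq] at h
      rw [Bool.and_eq_true, beq_iff_eq] at h1
      have h2 := c.not_dvd_d hY hr hk h1.2
      have h3 : Nat.Coprime (Nat.gcd t d) (Nat.gcd g (r ^ 100)) :=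
        ((hr.coprime_iff_not_dvd.2 fun h4 => h2 (h4.trans (Nat.gcd_dvd_right t d))).symm.pow_right 100).coprime_dvd_right
          (Nat.gcd_dvd_right _ _)
      refine ih hL' (Or.inr ⟨hr, Nat.dvd_of_mod_eq_zero h1.1, h2⟩) (h3.dvd_of_dvd_mul_left ?_)
        (Nat.div_pos (Nat.gcd_le_left _ h0) (Nat.gcd_pos_of_pos_left _ h0)) h
      rw [Nat.mul_div_cancel' (Nat.gcd_dvd_left _ _)]
      exact hg

/-- **the test is sound** -/
theorem dvd_of_chk (hY : Y ∈ Zs) {l ou G : ℕ} (hl : p ^ f % l ≠ 0) (hk : k ∣ ou) (h0 : 0 < ou)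
    (h : chkT Y t l ou G = true) : Nat.gcd t d ∣ G := by
  rw [chkT, force_eq, force_eq, force_eq] at h
  obtain ⟨s, g, h1, h2, h3⟩ := c.of_strip hY hk sm (by decide) (Or.inl rfl) (Nat.gcd_dvd_left t d) c.t_pos h
  rw [Bool.and_eq_true, force_eq, force_eq, Bool.and_eq_true, bne_iff_ne] at h3
  obtain ⟨hs, h4, h5⟩ := h1.resolve_left h3.1
  have h6 : Nat.gcd t d * (t * k) ≤ g * (t * ou) :=
    Nat.mul_le_mul h2 (Nat.mul_le_mul_left _ (Nat.le_of_dvd h0 hk))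
  refine c.dvd_of_deadQ hl hk h0 ?_
  by_cases hp : s = p
  · subst hp
    have h7 := allU_sound h3.2.2 c.real.hf fun j hj => by
      rw [Bool.eq_false_iff, Ne, Nat.blt_eq, not_lt]
      exact (Nat.pow_le_pow_left (Nat.pow_le_pow_right hs.pos hj) _).trans ((c.un h4).trans h6)
    rwa [force_eq] at h7
  · refine allU_sound h3.2.1 c.two_le fun j hj => ?_
    rw [Bool.eq_false_iff, Ne, Nat.blt_eq, not_lt]
    refine (Nat.pow_le_pow_left hj _).trans ?_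
    have h7 : O ≤ g * (t * ou) * bY Y (p ^ f) := (c.ss s hs h4 h5 hp).trans
      (Nat.mul_le_mul ((Nat.mul_le_mul_left _ (cnt_le c.k_pos s)).trans h6) (bS_le _ _ _))
    have h8 := low hY c.two_le
    rw [← c.real.eq, mul_left_comm (kk Y)] at h8
    have h9 := (Nat.le_of_mul_le_mul_left h8 (real_pos c.real)).trans (Nat.mul_le_mul_left _ h7)
    have h10 : 0 < bY Y (p ^ f) := Nat.pos_of_mul_pos_left (c.opos.trans_le h7)
    rw [← mul_assoc] at h9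
    exact Nat.le_of_mul_le_mul_right h9 h10

end Cond

end Cfsg.Agent.TH.Ex.Si
end

-- part: TH/Ex/Si/Tab
section
/-!
# S3541, `H ⊓ T` almost simple in `F₄, E₆, ²E₆, E₇, E₈`: the tables (helper64)
-/

set_option autoImplicit false

namespace Cfsg.Agent.TH.Ex.Si

open Cfsg.Agent.H902 Cfsg.Agent.H290.ElTab Cfsg.Agent.H252.EN

/-- the degree of the adjoint representation -/
def dim : Art.Sh → ℕ
  | .F4 => 52
  | .E7 => 133
  | .E8 => 248
  | _ => 78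

/-- a bound for the degrees of the alternating subgroups -/
def alt : Art.Sh → ℕ
  | .F4 => 11
  | .E7 => 14
  | .E8 => 18
  | _ => 12

/-- the groups of Lie type -/
def chkL (Y : Art.Sh) : Bool :=
  (reg (dim Y)).all fun x => chkT Y (od x.1 x.2.1 x.2.2) x.2.1 (ouN x.1 x.2.1 x.2.2) 1

/-- the alternating groups -/
def chkA (Y : Art.Sh) : Bool :=
  (List.range (alt Y + 1)).all fun n => Nat.blt n 5 || chkT Y (n.factorial / 2) 0 (if n = 6 then 4 else 2) 1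

/-- the order of the Monster -/
def oM : ℕ := 808017424794512875886459904961710757005754368000000000

/-- the indices which are left: the Tits group, `He`, `Suz` -/
def left (t : ℕ) : ℕ := if t = 17971200 ∨ t = 448345497600 then 65 else if t = 4030387200 then 49 else 1

/-- the sporadic groups and the Tits group -/
def chkS (Y : Art.Sh) : Bool :=
  Cfsg.Agent.OrdDiv.spor.all fun x => chkT Y x.2 0 (if x.2 = oM then 1 else 2) (left x.2)

private noncomputable def fr (x : ℕ) (c : ℕ × Bool) : ℕ :=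
  Bool.rec (Nat.sub (Nat.pow x c.1) 1) (Nat.add (Nat.pow x c.1) 1) c.2

private theorem fr_eq (x : ℕ) : ∀ c : ℕ × Bool, fr x c = fk x c
  | (_, false) => rfl
  | (_, true) => rfl

private noncomputable def pr (R x : ℕ) (L : List (ℕ × Bool)) : ℕ :=
  List.rec 1 (fun c _ ih => Nat.mul (Nat.gcd (fr x c) R) ih) L

private theorem pr_eq (R x : ℕ) : ∀ L : List (ℕ × Bool), pr R x L = (L.map fun c => Nat.gcd (fk x c) R).prod
  | [] => rfl
  | c :: L => by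
    rw [List.map_cons, List.prod_cons, ← pr_eq R x L, ← fr_eq]
    rfl

private noncomputable def ar (R x : ℕ) (L : List (ℕ × Bool)) : Bool :=
  List.rec true (fun c _ ih => Bool.rec ih false (Nat.beq (Nat.mod (fr x c) R) 0)) L

private theorem bne_eq (a : ℕ) : (a != 0) = !Nat.beq a 0 := by cases a <;> rfl

private theorem beq_eq (a : ℕ) : (a == 0) = Nat.beq a 0 := by cases a <;> rfl

private theorem ar_eq (R x : ℕ) : ∀ L : List (ℕ × Bool), ar R x L = L.all fun c => fk x c % R != 0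
  | [] => rfl
  | c :: L => by
    have h : ar R x (c :: L) = Bool.rec (ar R x L) false (Nat.beq (fr x c % R) 0) := rfl
    rw [List.all_cons, ← ar_eq R x L, ← fr_eq, h, bne_eq]
    cases Nat.beq (fr x c % R) 0 <;> rfl

private noncomputable def nN (Y : Art.Sh) (r t B R x : ℕ) : Bool :=
  Bool.rec true (Bool.rec false (Nat.beq (Nat.mod (Nat.mul (Nat.gcd (Art.dd Y x) r) t) (Nat.mul r (pr R x (dg Y)))) 0)
    (ar R x (dg Y))) (Nat.beq (Nat.mod (Nat.mul (Nat.gcd (Art.dd Y x) r) B) (pr R x (dg Y))) 0)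

private theorem nN_eq (Y : Art.Sh) (r t B R x : ℕ) : nN Y r t B R x = nvN Y r t B R x := by
  rw [nvN, force_eq, force_eq, ← pr_eq, ← ar_eq, bne_eq, beq_eq]
  have h : nN Y r t B R x = Bool.rec true (Bool.rec false
      (Nat.beq (Nat.gcd (Art.dd Y x) r * t % (r * pr R x (dg Y))) 0) (ar R x (dg Y)))
    (Nat.beq (Nat.gcd (Art.dd Y x) r * B % pr R x (dg Y)) 0) := rfl
  rw [h]
  cases Nat.beq (Nat.gcd (Art.dd Y x) r * B % pr R x (dg Y)) 0 <;> cases ar R x (dg Y) <;> rfl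

private noncomputable def nR (Y : Art.Sh) (r t B fuel : ℕ) : ℕ → ℕ → Bool :=
  Nat.rec (motive := fun _ => ℕ → ℕ → Bool) (fun _ _ => false)
    (fun _ ih R x => nN Y r t B R x || force (R * r) fun R' => (List.range r).all fun j => force (x + R * j) (ih R'))
    fuel

private theorem nR_eq (Y : Art.Sh) (r t B fuel : ℕ) : nR Y r t B fuel = nvR Y r t B fuel := by
  unfold nR nvR
  simp only [nN_eq]

private noncomputable def sT (Y : Art.Sh) (t B : ℕ) (F : ℕ → ℕ → Bool) (L : List ℕ) : ℕ → ℕ → Bool :=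
  List.rec F (fun r _ ih s g => cond (Nat.beq (Nat.mod t r) 0 && (List.range r).all fun x => Nat.beq x 0 || nR Y r t B 20 r x)
    (force (g / Nat.gcd g (r ^ 100)) (ih r)) (ih s g)) L

private theorem sT_eq (Y : Art.Sh) (t B : ℕ) (F : ℕ → ℕ → Bool) : ∀ L : List ℕ, sT Y t B F L = strip Y t B F L
  | [] => rfl
  | r :: L => by
    funext s g
    rw [strip, ← sT_eq Y t B F L, nv, ← nR_eq]
    simp only [beq_eq]
    rfl

private noncomputable def cT (Y : Art.Sh) (t l ou G : ℕ) : Bool :=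
  force t fun t => force ou fun ou => force (t * ou) fun B =>
    sT Y t B (fun s g => s != 0 && force (g * B) fun C => force (kk Y * C) fun C' =>
      allU (fun q => Nat.blt C' (q ^ e2 Y)) (deadQ Y t l ou G) 100000 2 &&
        allU (fun f => Nat.blt C ((s ^ f) ^ e1 Y)) (fun f => force (s ^ f) (deadQ Y t l ou G)) 1000 1) sm 0 t

private theorem cT_eq : chkT = cT := by
  funext Y t l ou G
  unfold chkT cT
  simp only [sT_eq]

private theorem _root_.Cfsg.Agent.KOea38f1d.e1.{ku, kv} {α : Type kv} {M : List α → Sort ku} (φ : ∀ l, M l) {z : M List.nil} {s : ∀ a l, M l → M (List.cons a l)} (h0 : φ List.nil = z) (hs : ∀ a l, φ (List.cons a l) = s a l (φ l)) (l : List α) : φ l = @List.rec α M z s l := List.rec h0 (fun a l ih => (hs a l).trans (congrArg (s a l) ih)) l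
private noncomputable def _root_.Cfsg.Agent.KOea38f1d.k3 : type_of% @instDecidableAnd := @(fun x0 x1 x2 x3 => @Decidable.rec.{1} _ @(fun x4 => @Decidable (@And @x0 @x1)) @(fun x4 => @Decidable.isFalse _ (@instDecidableAnd._proof_2 _ _ @x4)) @(fun x4 => @Decidable.rec.{1} _ @(fun x5 => @Decidable (@And @x0 @x1)) @(fun x5 => @Decidable.isFalse _ (@instDecidableAnd._proof_1 _ _ @x5)) @(fun x5 => @Decidable.isTrue _ (@And.intro _ _ @x4 @x5)) @x3) @x2)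
private theorem _root_.Cfsg.Agent.KOea38f1d.e3 : @instDecidableAnd = @_root_.Cfsg.Agent.KOea38f1d.k3 := by delta _root_.Cfsg.Agent.KOea38f1d.k3; rfl'
private noncomputable def _root_.Cfsg.Agent.KOea38f1d.k8 : type_of% @Nat.decEq := @(fun x0 x1 => @Bool.rec.{1} @(fun x2 => (@Eq.{1} _ (@Nat.beq @x0 @x1) @x2) → @Decidable (@Eq.{1} _ @x0 @x1)) @(fun x2 => @Decidable.isFalse _ (@Nat.ne_of_beq_eq_false _ _ @x2)) @(fun x2 => @Decidable.isTrue _ (@Nat.eq_of_beq_eq_true _ _ @x2)) (@Nat.beq @x0 @x1) (@Eq.refl.{1} _ (@Nat.beq @x0 @x1)))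
private theorem _root_.Cfsg.Agent.KOea38f1d.e8 : @Nat.decEq = @_root_.Cfsg.Agent.KOea38f1d.k8 := by delta _root_.Cfsg.Agent.KOea38f1d.k8; rfl'
private noncomputable def _root_.Cfsg.Agent.KOea38f1d.k11.{ku0} : type_of% @List.all.{ku0} := @(fun x0 x1 x2 => @List.rec.{(ku0+1), ku0} @x0 @(fun x3 => (@x0 → @Bool) → @Bool) @(fun x3 => @Bool.true) @(fun x3 x4 x5 x6 => @Bool.rec.{1} @(fun x7 => @Bool) @Bool.false (@x5 @x6) (@x6 @x3)) @x1 @x2)
private theorem _root_.Cfsg.Agent.KOea38f1d.e11.{ku0} : @List.all.{ku0} = @_root_.Cfsg.Agent.KOea38f1d.k11.{ku0} := by delta _root_.Cfsg.Agent.KOea38f1d.k11; funext a0 a1 a2; refine (congrFun (_root_.Cfsg.Agent.KOea38f1d.e1 (fun a1 a2 => @List.all.{ku0} a0 a1 a2) ?_ (fun c0 c1 => ?_) a1) a2 :) <;> (rfl')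
private noncomputable def _root_.Cfsg.Agent.KOea38f1d.k12.{ku0} : type_of% @List.append.{ku0} := @(fun x0 x1 x2 => @List.rec.{(ku0+1), ku0} @x0 @(fun x3 => (@List.{ku0} @x0) → @List.{ku0} @x0) @(fun x3 => @x3) @(fun x3 x4 x5 x6 => @x3 :: (@x5 @x6)) @x1 @x2)
private theorem _root_.Cfsg.Agent.KOea38f1d.e12.{ku0} : @List.append.{ku0} = @_root_.Cfsg.Agent.KOea38f1d.k12.{ku0} := by delta _root_.Cfsg.Agent.KOea38f1d.k12; funext a0 a1 a2; refine (congrFun (_root_.Cfsg.Agent.KOea38f1d.e1 (fun a1 a2 => @List.append.{ku0} a0 a1 a2) ?_ (fun c0 c1 => ?_) a1) a2 :) <;> (rfl')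
private noncomputable def _root_.Cfsg.Agent.KOea38f1d.k13.{ku0} : type_of% @List.flatten.{ku0} := @(fun x0 x1 => @List.rec.{(ku0+1), ku0} (@List.{ku0} @x0) @(fun x2 => @List.{ku0} @x0) [] @(fun x2 x3 x4 => @Cfsg.Agent.KOea38f1d.k12.{ku0} _ @x2 @x4) @x1)
private theorem _root_.Cfsg.Agent.KOea38f1d.e13.{ku0} : @List.flatten.{ku0} = @_root_.Cfsg.Agent.KOea38f1d.k13.{ku0} := by delta _root_.Cfsg.Agent.KOea38f1d.k13; rewrite [← Cfsg.Agent.KOea38f1d.e12.{ku0}]; funext a0 a1; refine (_root_.Cfsg.Agent.KOea38f1d.e1 (fun a1 => @List.flatten.{ku0} a0 a1) ?_ (fun c0 c1 => ?_) a1 :) <;> (rfl')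
private noncomputable def _root_.Cfsg.Agent.KOea38f1d.k14.{ku0, ku1} : type_of% @List.map.{ku0, ku1} := @(fun x0 x1 x2 x3 => @List.rec.{(ku1+1), ku0} @x0 @(fun x4 => @List.{ku1} @x1) [] @(fun x4 x5 x6 => (@x2 @x4) :: @x6) @x3)
private theorem _root_.Cfsg.Agent.KOea38f1d.e14.{ku0, ku1} : @List.map.{ku0, ku1} = @_root_.Cfsg.Agent.KOea38f1d.k14.{ku0, ku1} := by delta _root_.Cfsg.Agent.KOea38f1d.k14; funext a0 a1 a2 a3; refine (_root_.Cfsg.Agent.KOea38f1d.e1 (fun a3 => @List.map.{ku0, ku1} a0 a1 a2 a3) ?_ (fun c0 c1 => ?_) a3 :) <;> (rfl')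
private noncomputable def _root_.Cfsg.Agent.KOea38f1d.k15.{ku0} : type_of% @List.filter.{ku0} := @(fun x0 x1 x2 => @List.rec.{(ku0+1), ku0} @x0 @(fun x3 => @List.{ku0} @x0) [] @(fun x3 x4 x5 => @Bool.rec.{(ku0+1)} @(fun x6 => @List.{ku0} @x0) @x5 (@x3 :: @x5) (@x1 @x3)) @x2)
private theorem _root_.Cfsg.Agent.KOea38f1d.e15.{ku0} : @List.filter.{ku0} = @_root_.Cfsg.Agent.KOea38f1d.k15.{ku0} := by delta _root_.Cfsg.Agent.KOea38f1d.k15; funext a0 a1 a2; refine (_root_.Cfsg.Agent.KOea38f1d.e1 (fun a2 => @List.filter.{ku0} a0 a1 a2) ?_ (fun c0 c1 => ?_) a2 :) <;> (rfl')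
private noncomputable def _root_.Cfsg.Agent.KOea38f1d.k16 : (by first | exact type_of% @Cfsg.Agent.H290.ElTab.reg | exact Unit : Sort _) := by first | (refine @Subtype.val _ (fun g => @Cfsg.Agent.H290.ElTab.reg = @g) (@Subtype.mk _ _ (@(fun x0 => @Cfsg.Agent.KOea38f1d.k13.{0} _ (@Cfsg.Agent.KOea38f1d.k14.{0, 0} _ _ @(fun x1 => @Cfsg.Agent.KOea38f1d.k14.{0, 0} _ _ @(fun x2 => (@x1, @x2)) (@Cfsg.Agent.KOea38f1d.k15.{0} _ @(fun x2 => @Bool.rec.{1} @(fun x3 => @Bool) @Bool.false (@Decidable.rec.{1} _ @(fun x3 => @Bool) @(fun x3 => @Bool.false) @(fun x3 => @Bool.true) (@Cfsg.Agent.H902.Art.instDecidableOk @x1 (@Prod.fst.{0, 0} _ _ @x2) (@Prod.snd.{0, 0} _ _ @x2))) (@Nat.ble (@Cfsg.Agent.H290.ElReg.lb @x1 (@Nat.pow (@Prod.fst.{0, 0} _ _ @x2) (@Prod.snd.{0, 0} _ _ @x2))) @x0)) @Cfsg.Agent.H290.ElTab.qs)) @Cfsg.Agent.H290.ElTab.shs))) ?_); rewrite [← Cfsg.Agent.KOea38f1d.e15.{0}, ←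 Cfsg.Agent.KOea38f1d.e14.{0, 0}, ← Cfsg.Agent.KOea38f1d.e13.{0}]; (try delta Cfsg.Agent.H290.ElTab.reg); (try generalize @Cfsg.Agent.H290.ElReg.lb = g0); (try generalize @Cfsg.Agent.H290.ElTab.qs = g1); (try generalize @Cfsg.Agent.H290.ElTab.shs = g2); rfl') | exact @Cfsg.Agent.H290.ElTab.reg | exact ()
private theorem _root_.Cfsg.Agent.KOea38f1d.e16 : (by first | exact @Cfsg.Agent.H290.ElTab.reg = @_root_.Cfsg.Agent.KOea38f1d.k16 | exact True : Prop) := by first | (delta _root_.Cfsg.Agent.KOea38f1d.k16; exact @Subtype.property _ (fun g => @Cfsg.Agent.H290.ElTab.reg = @g) _) | rfl | trivial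
private noncomputable def _root_.Cfsg.Agent.KOea38f1d.k17 : (by first | exact type_of% @Cfsg.Agent.TH.Ex.Si.dim | exact Unit : Sort _) := by first | (refine @Subtype.val _ (fun g => @Cfsg.Agent.TH.Ex.Si.dim = @g) (@Subtype.mk _ _ (@(fun (x0 : @Cfsg.Agent.H902.Art.Sh) => @Cfsg.Agent.H902.Art.Sh.rec.{1} @(fun (x1 : @Cfsg.Agent.H902.Art.Sh) => (((@Nat.hasNotBit (nat_lit 832) (@Cfsg.Agent.H902.Art.Sh.ctorIdx @x1)) → @Nat) → @Nat)) @(fun (x1 : @Nat) (x2 : ((@Nat.hasNotBit (nat_lit 832) (@Cfsg.Agent.H902.Art.Sh.ctorIdx (@Cfsg.Agent.H902.Art.Sh.L @x1))) → @Nat)) => @x2 (@Nat.ne_of_beq_eq_false (@Nat.land (@OfNat.ofNat.{0} @Nat (nat_lit 1) (@instOfNatNat (nat_lit 1))) (@Nat.shiftRight (nat_lit 832) (nat_lit 0))) (@OfNat.ofNat.{0} @Nat (nat_lit 1) (@instOfNatNat (nat_lit 1))) (@Eq.refl.{1} @Bool @Bool.false))) @(fun (x1 : @Nat) (x2 : ((@Nat.hasNotBit (nat_lit 832) (@Cfsg.Agent.H902.Art.Sh.ctorIdx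 (@Cfsg.Agent.H902.Art.Sh.C @x1))) → @Nat)) => @x2 (@Nat.ne_of_beq_eq_false (@Nat.land (@OfNat.ofNat.{0} @Nat (nat_lit 1) (@instOfNatNat (nat_lit 1))) (@Nat.shiftRight (nat_lit 832) (nat_lit 1))) (@OfNat.ofNat.{0} @Nat (nat_lit 1) (@instOfNatNat (nat_lit 1))) (@Eq.refl.{1} @Bool @Bool.false))) @(fun (x1 : @Nat) (x2 : ((@Nat.hasNotBit (nat_lit 832) (@Cfsg.Agent.H902.Art.Sh.ctorIdx (@Cfsg.Agent.H902.Art.Sh.U @x1))) → @Nat)) => @x2 (@Nat.ne_of_beq_eq_false (@Nat.land (@OfNat.ofNat.{0} @Nat (nat_lit 1) (@instOfNatNat (nat_lit 1))) (@Nat.shiftRight (nat_lit 832) (nat_lit 2))) (@OfNat.ofNat.{0} @Nat (nat_lit 1) (@instOfNatNat (nat_lit 1))) (@Eq.refl.{1} @Bool @Bool.false))) @(fun (x1 : @Nat) (x2 : ((@Nat.hasNotBit (nat_lit 832) (@Cfsg.Agent.H902.Art.Sh.ctorIdx (@Cfsg.Agent.H902.Art.Sh.D @x1))) → @Nat)) => @x2 (@Nat.ne_of_beq_eq_false (@Nat.land (@OfNat.ofNat.{0} @Nat (nat_lit 1) (@instOfNatNat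 (nat_lit 1))) (@Nat.shiftRight (nat_lit 832) (nat_lit 3))) (@OfNat.ofNat.{0} @Nat (nat_lit 1) (@instOfNatNat (nat_lit 1))) (@Eq.refl.{1} @Bool @Bool.false))) @(fun (x1 : @Nat) (x2 : ((@Nat.hasNotBit (nat_lit 832) (@Cfsg.Agent.H902.Art.Sh.ctorIdx (@Cfsg.Agent.H902.Art.Sh.DD @x1))) → @Nat)) => @x2 (@Nat.ne_of_beq_eq_false (@Nat.land (@OfNat.ofNat.{0} @Nat (nat_lit 1) (@instOfNatNat (nat_lit 1))) (@Nat.shiftRight (nat_lit 832) (nat_lit 4))) (@OfNat.ofNat.{0} @Nat (nat_lit 1) (@instOfNatNat (nat_lit 1))) (@Eq.refl.{1} @Bool @Bool.false))) @(fun (x1 : ((@Nat.hasNotBit (nat_lit 832) (@Cfsg.Agent.H902.Art.Sh.ctorIdx @Cfsg.Agent.H902.Art.Sh.G2)) → @Nat)) => @x1 (@Nat.ne_of_beq_eq_false (@Nat.land (@OfNat.ofNat.{0} @Nat (nat_lit 1) (@instOfNatNat (nat_lit 1))) (@Nat.shiftRight (nat_lit 832) (nat_lit 5))) (@OfNat.ofNat.{0} @Nat (nat_lit 1) (@instOfNatNat (nat_lit 1))) (@Eq.refl.{1} @Bool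 @Bool.false))) @(fun (x1 : ((@Nat.hasNotBit (nat_lit 832) (@Cfsg.Agent.H902.Art.Sh.ctorIdx @Cfsg.Agent.H902.Art.Sh.F4)) → @Nat)) => nat_lit 52) @(fun (x1 : ((@Nat.hasNotBit (nat_lit 832) (@Cfsg.Agent.H902.Art.Sh.ctorIdx @Cfsg.Agent.H902.Art.Sh.E6)) → @Nat)) => @x1 (@Nat.ne_of_beq_eq_false (@Nat.land (@OfNat.ofNat.{0} @Nat (nat_lit 1) (@instOfNatNat (nat_lit 1))) (@Nat.shiftRight (nat_lit 832) (nat_lit 7))) (@OfNat.ofNat.{0} @Nat (nat_lit 1) (@instOfNatNat (nat_lit 1))) (@Eq.refl.{1} @Bool @Bool.false))) @(fun (x1 : ((@Nat.hasNotBit (nat_lit 832) (@Cfsg.Agent.H902.Art.Sh.ctorIdx @Cfsg.Agent.H902.Art.Sh.E7)) → @Nat)) => nat_lit 133) @(fun (x1 : ((@Nat.hasNotBit (nat_lit 832) (@Cfsg.Agent.H902.Art.Sh.ctorIdx @Cfsg.Agent.H902.Art.Sh.E8)) → @Nat)) => nat_lit 248) @(fun (x1 : ((@Nat.hasNotBit (nat_lit 832) (@Cfsg.Agent.H902.Art.Sh.ctorIdx @Cfsg.Agent.H902.Art.Sh.TE6)) → @Nat)) =>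 @x1 (@Nat.ne_of_beq_eq_false (@Nat.land (@OfNat.ofNat.{0} @Nat (nat_lit 1) (@instOfNatNat (nat_lit 1))) (@Nat.shiftRight (nat_lit 832) (nat_lit 10))) (@OfNat.ofNat.{0} @Nat (nat_lit 1) (@instOfNatNat (nat_lit 1))) (@Eq.refl.{1} @Bool @Bool.false))) @(fun (x1 : ((@Nat.hasNotBit (nat_lit 832) (@Cfsg.Agent.H902.Art.Sh.ctorIdx @Cfsg.Agent.H902.Art.Sh.TD4)) → @Nat)) => @x1 (@Nat.ne_of_beq_eq_false (@Nat.land (@OfNat.ofNat.{0} @Nat (nat_lit 1) (@instOfNatNat (nat_lit 1))) (@Nat.shiftRight (nat_lit 832) (nat_lit 11))) (@OfNat.ofNat.{0} @Nat (nat_lit 1) (@instOfNatNat (nat_lit 1))) (@Eq.refl.{1} @Bool @Bool.false))) @(fun (x1 : ((@Nat.hasNotBit (nat_lit 832) (@Cfsg.Agent.H902.Art.Sh.ctorIdx @Cfsg.Agent.H902.Art.Sh.Sz)) → @Nat)) => @x1 (@Nat.ne_of_beq_eq_false (@Nat.land (@OfNat.ofNat.{0} @Nat (nat_lit 1) (@instOfNatNat (nat_lit 1))) (@Nat.shiftRight (nat_lit 832) (nat_lit 12))) (@OfNat.ofNat.{0}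 @Nat (nat_lit 1) (@instOfNatNat (nat_lit 1))) (@Eq.refl.{1} @Bool @Bool.false))) @(fun (x1 : ((@Nat.hasNotBit (nat_lit 832) (@Cfsg.Agent.H902.Art.Sh.ctorIdx @Cfsg.Agent.H902.Art.Sh.Ree)) → @Nat)) => @x1 (@Nat.ne_of_beq_eq_false (@Nat.land (@OfNat.ofNat.{0} @Nat (nat_lit 1) (@instOfNatNat (nat_lit 1))) (@Nat.shiftRight (nat_lit 832) (nat_lit 13))) (@OfNat.ofNat.{0} @Nat (nat_lit 1) (@instOfNatNat (nat_lit 1))) (@Eq.refl.{1} @Bool @Bool.false))) @(fun (x1 : ((@Nat.hasNotBit (nat_lit 832) (@Cfsg.Agent.H902.Art.Sh.ctorIdx @Cfsg.Agent.H902.Art.Sh.TF4)) → @Nat)) => @x1 (@Nat.ne_of_beq_eq_false (@Nat.land (@OfNat.ofNat.{0} @Nat (nat_lit 1) (@instOfNatNat (nat_lit 1))) (@Nat.shiftRight (nat_lit 832) (nat_lit 14))) (@OfNat.ofNat.{0} @Nat (nat_lit 1) (@instOfNatNat (nat_lit 1))) (@Eq.refl.{1} @Bool @Bool.false))) @x0 @(fun (x1 : @Nat.hasNotBit (nat_lit 832) (@Cfsg.Agent.H902.Art.Sh.ctorIdx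 @x0)) => nat_lit 78))) ?_); (try delta Cfsg.Agent.TH.Ex.Si.dim); (try generalize @Cfsg.Agent.H902.Art.Sh.ctorIdx = g0); rfl') | exact @Cfsg.Agent.TH.Ex.Si.dim | exact ()
private theorem _root_.Cfsg.Agent.KOea38f1d.e17 : (by first | exact @Cfsg.Agent.TH.Ex.Si.dim = @_root_.Cfsg.Agent.KOea38f1d.k17 | exact True : Prop) := by first | (delta _root_.Cfsg.Agent.KOea38f1d.k17; exact @Subtype.property _ (fun g => @Cfsg.Agent.TH.Ex.Si.dim = @g) _) | rfl | trivial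
private noncomputable def _root_.Cfsg.Agent.KOea38f1d.oEq.{ku} (α : Sort ku) (a b : Nat) (f t : α) : α := @Decidable.rec (a = b) (fun _ => α) (fun _ => f) (fun _ => t) (Nat.decEq a b)
private noncomputable def _root_.Cfsg.Agent.KOea38f1d.k18.{ku} (α : Sort ku) (a b : Nat) (f t : α) : α := @Bool.rec (fun _ => α) f t (Nat.beq a b)
private theorem _root_.Cfsg.Agent.KOea38f1d.e18.{ku} : @_root_.Cfsg.Agent.KOea38f1d.oEq.{ku} = @_root_.Cfsg.Agent.KOea38f1d.k18.{ku} := funext fun α => funext fun a => funext fun b => funext fun f => funext fun t => by delta _root_.Cfsg.Agent.KOea38f1d.oEq _root_.Cfsg.Agent.KOea38f1d.k18; cases h : Nat.beq a b <;> cases Nat.decEq a b <;> rename_i g <;> first | rfl | exact absurd g (Nat.ne_of_beq_eq_false h) | exact absurd (Nat.eq_of_beq_eq_true h) g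
private noncomputable def _root_.Cfsg.Agent.KOea38f1d.k19 : (by first | exact type_of% @Cfsg.Agent.H252.EN.force | exact Unit : Sort _) := by first | (refine @Subtype.val _ (fun g => @Cfsg.Agent.H252.EN.force = @g) (@Subtype.mk _ _ (@(fun x0 x1 x2 => @Nat.rec.{1} @(fun x3 => @x0) (@x2 (nat_lit 0)) @(fun x3 x4 => @x2 (@Nat.add @x3 (nat_lit 1))) @x1)) ?_); rfl') | exact @Cfsg.Agent.H252.EN.force | exact ()
private theorem _root_.Cfsg.Agent.KOea38f1d.e19 : (by first | exact @Cfsg.Agent.H252.EN.force = @_root_.Cfsg.Agent.KOea38f1d.k19 | exact True : Prop) := by first | (delta _root_.Cfsg.Agent.KOea38f1d.k19; exact @Subtype.property _ (fun g => @Cfsg.Agent.H252.EN.force = @g) _) | rfl | trivial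
private theorem _root_.Cfsg.Agent.KOea38f1d.e20.{ku} {M : Nat → Sort ku} (φ : ∀ n, M n) {z : M Nat.zero} {s : ∀ n, M n → M (Nat.succ n)} (h0 : φ Nat.zero = z) (hs : ∀ n, φ (Nat.succ n) = s n (φ n)) (n : Nat) : φ n = @Nat.rec M z s n := Nat.rec h0 (fun n ih => (hs n).trans (congrArg (s n) ih)) n
private noncomputable def _root_.Cfsg.Agent.KOea38f1d.k21 : type_of% @List.range.loop := @(fun x0 x1 => @Nat.rec.{1} @(fun x2 => (@List.{0} ℕ) → @List.{0} ℕ) @(fun x2 => @x2) @(fun x2 x3 x4 => @x3 (@x2 :: @x4)) @x0 @x1)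
private theorem _root_.Cfsg.Agent.KOea38f1d.e21 : @List.range.loop = @_root_.Cfsg.Agent.KOea38f1d.k21 := by delta _root_.Cfsg.Agent.KOea38f1d.k21; funext a0 a1; refine (congrFun (_root_.Cfsg.Agent.KOea38f1d.e20 (fun a0 a1 => @List.range.loop a0 a1) ?_ (fun c0 => ?_) a0) a1 :) <;> (rfl')
private noncomputable def _root_.Cfsg.Agent.KOea38f1d.k22 : (by first | exact type_of% @Cfsg.Agent.H902.Art.dd | exact Unit : Sort _) := by first | (refine @Subtype.val _ (fun g => @Cfsg.Agent.H902.Art.dd = @g) (@Subtype.mk _ _ (@(fun x0 x1 => @Cfsg.Agent.H902.Art.Sh.rec.{1} @(fun x2 => ((@Nat.hasNotBit (nat_lit 1439) (@Cfsg.Agent.H902.Art.Sh.ctorIdx @x2)) → ℕ) → ℕ) @(fun x2 x3 => @Nat.gcd @x2 (@Nat.sub @x1 (nat_lit 1))) @(fun x2 x3 => @Nat.gcd (nat_lit 2) (@Nat.sub @x1 (nat_lit 1))) @(fun x2 x3 => @Nat.gcd @x2 (@Nat.add @x1 (nat_lit 1))) @(fun x2 x3 => @Nat.gcd (nat_lit 4) (@Nat.sub (@Nat.pow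 @x1 @x2) (nat_lit 1))) @(fun x2 x3 => @Nat.gcd (nat_lit 4) (@Nat.add (@Nat.pow @x1 @x2) (nat_lit 1))) @(fun x2 => @x2 (@Nat.ne_of_beq_eq_false _ _ (@Eq.refl.{1} _ @Bool.false))) @(fun x2 => @x2 (@Nat.ne_of_beq_eq_false _ _ (@Eq.refl.{1} _ @Bool.false))) @(fun x2 => @Nat.gcd (nat_lit 3) (@Nat.sub @x1 (nat_lit 1))) @(fun x2 => @Nat.gcd (nat_lit 2) (@Nat.sub @x1 (nat_lit 1))) @(fun x2 => @x2 (@Nat.ne_of_beq_eq_false _ _ (@Eq.refl.{1} _ @Bool.false))) @(fun x2 => @Nat.gcd (nat_lit 3) (@Nat.add @x1 (nat_lit 1))) @(fun x2 => @x2 (@Nat.ne_of_beq_eq_false _ _ (@Eq.refl.{1} _ @Bool.false))) @(fun x2 => @x2 (@Nat.ne_of_beq_eq_false _ _ (@Eq.refl.{1} _ @Bool.false))) @(fun x2 => @x2 (@Nat.ne_of_beq_eq_false _ _ (@Eq.refl.{1} _ @Bool.false))) @(fun x2 => @x2 (@Nat.ne_of_beq_eq_false _ _ (@Eq.refl.{1} _ @Bool.false))) @x0 @(fun x2 => nat_lit 1))) ?_); (try delta Cfsg.Agent.H902.Art.dd);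 (try generalize @Cfsg.Agent.H902.Art.Sh.ctorIdx = g0); rfl') | exact @Cfsg.Agent.H902.Art.dd | exact ()
private theorem _root_.Cfsg.Agent.KOea38f1d.e22 : (by first | exact @Cfsg.Agent.H902.Art.dd = @_root_.Cfsg.Agent.KOea38f1d.k22 | exact True : Prop) := by first | (delta _root_.Cfsg.Agent.KOea38f1d.k22; exact @Subtype.property _ (fun g => @Cfsg.Agent.H902.Art.dd = @g) _) | rfl | trivial
private noncomputable def _root_.Cfsg.Agent.KOea38f1d.k23 : (by first | exact type_of% @Cfsg.Agent.TH.Ex.Si.fr | exact Unit : Sort _) := by first | (refine @Subtype.val _ (fun g => @Cfsg.Agent.TH.Ex.Si.fr = @g) (@Subtype.mk _ _ (@(fun x0 x1 => @Bool.rec.{1} @(fun x2 => ℕ) (@Nat.sub (@Nat.pow @x0 (@Prod.fst.{0, 0} _ _ @x1)) (nat_lit 1)) (@Nat.add (@Nat.pow @x0 (@Prod.fst.{0, 0} _ _ @x1)) (nat_lit 1)) (@Prod.snd.{0, 0} _ _ @x1))) ?_); rfl') | exact @Cfsg.Agent.TH.Ex.Si.fr | exact ()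
private theorem _root_.Cfsg.Agent.KOea38f1d.e23 : (by first | exact @Cfsg.Agent.TH.Ex.Si.fr = @_root_.Cfsg.Agent.KOea38f1d.k23 | exact True : Prop) := by first | (delta _root_.Cfsg.Agent.KOea38f1d.k23; exact @Subtype.property _ (fun g => @Cfsg.Agent.TH.Ex.Si.fr = @g) _) | rfl | trivial
private noncomputable def _root_.Cfsg.Agent.KOea38f1d.k24 : (by first | exact type_of% @Cfsg.Agent.TH.Ex.Si.pr | exact Unit : Sort _) := by first | (refine @Subtype.val _ (fun g => @Cfsg.Agent.TH.Ex.Si.pr = @g) (@Subtype.mk _ _ (@(fun x0 x1 x2 => @List.rec.{1, 0} (ℕ × @Bool) @(fun x3 => ℕ) (nat_lit 1) @(fun x3 x4 x5 => @Nat.mul (@Nat.gcd (@Cfsg.Agent.KOea38f1d.k23 @x1 @x3) @x0) @x5) @x2)) ?_); rewrite [← Cfsg.Agent.KOea38f1d.e23]; (try delta Cfsg.Agent.TH.Ex.Si.pr); (try generalize @Cfsg.Agent.TH.Ex.Si.fr = g0); rfl') | exact @Cfsg.Agent.TH.Ex.Si.pr | exact ()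
private theorem _root_.Cfsg.Agent.KOea38f1d.e24 : (by first | exact @Cfsg.Agent.TH.Ex.Si.pr = @_root_.Cfsg.Agent.KOea38f1d.k24 | exact True : Prop) := by first | (delta _root_.Cfsg.Agent.KOea38f1d.k24; exact @Subtype.property _ (fun g => @Cfsg.Agent.TH.Ex.Si.pr = @g) _) | rfl | trivial
private noncomputable def _root_.Cfsg.Agent.KOea38f1d.k25 : (by first | exact type_of% @Cfsg.Agent.TH.Ex.Si.dg' | exact Unit : Sort _) := by first | (refine @Subtype.val _ (fun g => @Cfsg.Agent.TH.Ex.Si.dg' = @g) (@Subtype.mk _ _ (@(fun (x0 : @Cfsg.Agent.H902.Art.Sh) => @Cfsg.Agent.H902.Art.Sh.rec.{1} @(fun (x1 : @Cfsg.Agent.H902.Art.Sh) => (((@Nat.hasNotBit (nat_lit 1984) (@Cfsg.Agent.H902.Art.Sh.ctorIdx @x1)) → @List.{0} (@Prod.{0, 0} @Nat @Bool)) → @List.{0} (@Prod.{0, 0} @Nat @Bool))) @(fun (x1 : @Nat) (x2 : ((@Nat.hasNotBit (nat_lit 1984) (@Cfsg.Agent.H902.Art.Sh.ctorIdx (@Cfsg.Agent.H902.Art.Sh.L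 @x1))) → @List.{0} (@Prod.{0, 0} @Nat @Bool))) => @x2 (@Nat.ne_of_beq_eq_false (@Nat.land (@OfNat.ofNat.{0} @Nat (nat_lit 1) (@instOfNatNat (nat_lit 1))) (@Nat.shiftRight (nat_lit 1984) (nat_lit 0))) (@OfNat.ofNat.{0} @Nat (nat_lit 1) (@instOfNatNat (nat_lit 1))) (@Eq.refl.{1} @Bool @Bool.false))) @(fun (x1 : @Nat) (x2 : ((@Nat.hasNotBit (nat_lit 1984) (@Cfsg.Agent.H902.Art.Sh.ctorIdx (@Cfsg.Agent.H902.Art.Sh.C @x1))) → @List.{0} (@Prod.{0, 0} @Nat @Bool))) => @x2 (@Nat.ne_of_beq_eq_false (@Nat.land (@OfNat.ofNat.{0} @Nat (nat_lit 1) (@instOfNatNat (nat_lit 1))) (@Nat.shiftRight (nat_lit 1984) (nat_lit 1))) (@OfNat.ofNat.{0} @Nat (nat_lit 1) (@instOfNatNat (nat_lit 1))) (@Eq.refl.{1} @Bool @Bool.false))) @(fun (x1 : @Nat) (x2 : ((@Nat.hasNotBit (nat_lit 1984) (@Cfsg.Agent.H902.Art.Sh.ctorIdx (@Cfsg.Agent.H902.Art.Sh.U @x1))) → @List.{0} (@Prod.{0, 0} @Nat @Bool))) => @x2 (@Nat.ne_of_beq_eq_false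 (@Nat.land (@OfNat.ofNat.{0} @Nat (nat_lit 1) (@instOfNatNat (nat_lit 1))) (@Nat.shiftRight (nat_lit 1984) (nat_lit 2))) (@OfNat.ofNat.{0} @Nat (nat_lit 1) (@instOfNatNat (nat_lit 1))) (@Eq.refl.{1} @Bool @Bool.false))) @(fun (x1 : @Nat) (x2 : ((@Nat.hasNotBit (nat_lit 1984) (@Cfsg.Agent.H902.Art.Sh.ctorIdx (@Cfsg.Agent.H902.Art.Sh.D @x1))) → @List.{0} (@Prod.{0, 0} @Nat @Bool))) => @x2 (@Nat.ne_of_beq_eq_false (@Nat.land (@OfNat.ofNat.{0} @Nat (nat_lit 1) (@instOfNatNat (nat_lit 1))) (@Nat.shiftRight (nat_lit 1984) (nat_lit 3))) (@OfNat.ofNat.{0} @Nat (nat_lit 1) (@instOfNatNat (nat_lit 1))) (@Eq.refl.{1} @Bool @Bool.false))) @(fun (x1 : @Nat) (x2 : ((@Nat.hasNotBit (nat_lit 1984) (@Cfsg.Agent.H902.Art.Sh.ctorIdx (@Cfsg.Agent.H902.Art.Sh.DD @x1))) → @List.{0} (@Prod.{0, 0} @Nat @Bool))) => @x2 (@Nat.ne_of_beq_eq_false (@Nat.land (@OfNat.ofNat.{0} @Nat (nat_lit 1) (@instOfNatNat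 (nat_lit 1))) (@Nat.shiftRight (nat_lit 1984) (nat_lit 4))) (@OfNat.ofNat.{0} @Nat (nat_lit 1) (@instOfNatNat (nat_lit 1))) (@Eq.refl.{1} @Bool @Bool.false))) @(fun (x1 : ((@Nat.hasNotBit (nat_lit 1984) (@Cfsg.Agent.H902.Art.Sh.ctorIdx @Cfsg.Agent.H902.Art.Sh.G2)) → @List.{0} (@Prod.{0, 0} @Nat @Bool))) => @x1 (@Nat.ne_of_beq_eq_false (@Nat.land (@OfNat.ofNat.{0} @Nat (nat_lit 1) (@instOfNatNat (nat_lit 1))) (@Nat.shiftRight (nat_lit 1984) (nat_lit 5))) (@OfNat.ofNat.{0} @Nat (nat_lit 1) (@instOfNatNat (nat_lit 1))) (@Eq.refl.{1} @Bool @Bool.false))) @(fun (x1 : ((@Nat.hasNotBit (nat_lit 1984) (@Cfsg.Agent.H902.Art.Sh.ctorIdx @Cfsg.Agent.H902.Art.Sh.F4)) → @List.{0} (@Prod.{0, 0} @Nat @Bool))) => @List.cons.{0} (@Prod.{0, 0} @Nat @Bool) (@Prod.mk.{0, 0} @Nat @Bool (nat_lit 6) @Bool.false) (@List.cons.{0} (@Prod.{0, 0} @Nat @Bool) (@Prod.mk.{0, 0} @Nat @Bool (nat_lit 8) @Bool.false)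 (@List.cons.{0} (@Prod.{0, 0} @Nat @Bool) (@Prod.mk.{0, 0} @Nat @Bool (nat_lit 12) @Bool.false) (@List.nil.{0} (@Prod.{0, 0} @Nat @Bool))))) @(fun (x1 : ((@Nat.hasNotBit (nat_lit 1984) (@Cfsg.Agent.H902.Art.Sh.ctorIdx @Cfsg.Agent.H902.Art.Sh.E6)) → @List.{0} (@Prod.{0, 0} @Nat @Bool))) => @List.cons.{0} (@Prod.{0, 0} @Nat @Bool) (@Prod.mk.{0, 0} @Nat @Bool (nat_lit 5) @Bool.false) (@List.cons.{0} (@Prod.{0, 0} @Nat @Bool) (@Prod.mk.{0, 0} @Nat @Bool (nat_lit 6) @Bool.false) (@List.cons.{0} (@Prod.{0, 0} @Nat @Bool) (@Prod.mk.{0, 0} @Nat @Bool (nat_lit 8) @Bool.false) (@List.cons.{0} (@Prod.{0, 0} @Nat @Bool) (@Prod.mk.{0, 0} @Nat @Bool (nat_lit 9) @Bool.false) (@List.cons.{0} (@Prod.{0, 0} @Nat @Bool) (@Prod.mk.{0, 0} @Nat @Bool (nat_lit 12) @Bool.false) (@List.nil.{0} (@Prod.{0, 0} @Nat @Bool))))))) @(fun (x1 : ((@Nat.hasNotBit (nat_lit 1984) (@Cfsg.Agent.H902.Art.Sh.ctorIdx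 @Cfsg.Agent.H902.Art.Sh.E7)) → @List.{0} (@Prod.{0, 0} @Nat @Bool))) => @List.cons.{0} (@Prod.{0, 0} @Nat @Bool) (@Prod.mk.{0, 0} @Nat @Bool (nat_lit 6) @Bool.false) (@List.cons.{0} (@Prod.{0, 0} @Nat @Bool) (@Prod.mk.{0, 0} @Nat @Bool (nat_lit 8) @Bool.false) (@List.cons.{0} (@Prod.{0, 0} @Nat @Bool) (@Prod.mk.{0, 0} @Nat @Bool (nat_lit 10) @Bool.false) (@List.cons.{0} (@Prod.{0, 0} @Nat @Bool) (@Prod.mk.{0, 0} @Nat @Bool (nat_lit 12) @Bool.false) (@List.cons.{0} (@Prod.{0, 0} @Nat @Bool) (@Prod.mk.{0, 0} @Nat @Bool (nat_lit 14) @Bool.false) (@List.cons.{0} (@Prod.{0, 0} @Nat @Bool) (@Prod.mk.{0, 0} @Nat @Bool (nat_lit 18) @Bool.false) (@List.nil.{0} (@Prod.{0, 0} @Nat @Bool)))))))) @(fun (x1 : ((@Nat.hasNotBit (nat_lit 1984) (@Cfsg.Agent.H902.Art.Sh.ctorIdx @Cfsg.Agent.H902.Art.Sh.E8)) → @List.{0} (@Prod.{0, 0} @Nat @Bool))) => @List.cons.{0} (@Prod.{0, 0} @Nat @Bool) (@Prod.mk.{0,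 0} @Nat @Bool (nat_lit 8) @Bool.false) (@List.cons.{0} (@Prod.{0, 0} @Nat @Bool) (@Prod.mk.{0, 0} @Nat @Bool (nat_lit 12) @Bool.false) (@List.cons.{0} (@Prod.{0, 0} @Nat @Bool) (@Prod.mk.{0, 0} @Nat @Bool (nat_lit 14) @Bool.false) (@List.cons.{0} (@Prod.{0, 0} @Nat @Bool) (@Prod.mk.{0, 0} @Nat @Bool (nat_lit 18) @Bool.false) (@List.cons.{0} (@Prod.{0, 0} @Nat @Bool) (@Prod.mk.{0, 0} @Nat @Bool (nat_lit 20) @Bool.false) (@List.cons.{0} (@Prod.{0, 0} @Nat @Bool) (@Prod.mk.{0, 0} @Nat @Bool (nat_lit 24) @Bool.false) (@List.cons.{0} (@Prod.{0, 0} @Nat @Bool) (@Prod.mk.{0, 0} @Nat @Bool (nat_lit 30) @Bool.false) (@List.nil.{0} (@Prod.{0, 0} @Nat @Bool))))))))) @(fun (x1 : ((@Nat.hasNotBit (nat_lit 1984) (@Cfsg.Agent.H902.Art.Sh.ctorIdx @Cfsg.Agent.H902.Art.Sh.TE6)) → @List.{0} (@Prod.{0, 0} @Nat @Bool))) => @List.cons.{0} (@Prod.{0, 0} @Nat @Bool) (@Prod.mk.{0, 0} @Nat @Bool (nat_lit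 5) @Bool.true) (@List.cons.{0} (@Prod.{0, 0} @Nat @Bool) (@Prod.mk.{0, 0} @Nat @Bool (nat_lit 6) @Bool.false) (@List.cons.{0} (@Prod.{0, 0} @Nat @Bool) (@Prod.mk.{0, 0} @Nat @Bool (nat_lit 8) @Bool.false) (@List.cons.{0} (@Prod.{0, 0} @Nat @Bool) (@Prod.mk.{0, 0} @Nat @Bool (nat_lit 9) @Bool.true) (@List.cons.{0} (@Prod.{0, 0} @Nat @Bool) (@Prod.mk.{0, 0} @Nat @Bool (nat_lit 12) @Bool.false) (@List.nil.{0} (@Prod.{0, 0} @Nat @Bool))))))) @(fun (x1 : ((@Nat.hasNotBit (nat_lit 1984) (@Cfsg.Agent.H902.Art.Sh.ctorIdx @Cfsg.Agent.H902.Art.Sh.TD4)) → @List.{0} (@Prod.{0, 0} @Nat @Bool))) => @x1 (@Nat.ne_of_beq_eq_false (@Nat.land (@OfNat.ofNat.{0} @Nat (nat_lit 1) (@instOfNatNat (nat_lit 1))) (@Nat.shiftRight (nat_lit 1984) (nat_lit 11))) (@OfNat.ofNat.{0} @Nat (nat_lit 1) (@instOfNatNat (nat_lit 1))) (@Eq.refl.{1} @Bool @Bool.false))) @(fun (x1 : ((@Nat.hasNotBit (nat_lit 1984)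 (@Cfsg.Agent.H902.Art.Sh.ctorIdx @Cfsg.Agent.H902.Art.Sh.Sz)) → @List.{0} (@Prod.{0, 0} @Nat @Bool))) => @x1 (@Nat.ne_of_beq_eq_false (@Nat.land (@OfNat.ofNat.{0} @Nat (nat_lit 1) (@instOfNatNat (nat_lit 1))) (@Nat.shiftRight (nat_lit 1984) (nat_lit 12))) (@OfNat.ofNat.{0} @Nat (nat_lit 1) (@instOfNatNat (nat_lit 1))) (@Eq.refl.{1} @Bool @Bool.false))) @(fun (x1 : ((@Nat.hasNotBit (nat_lit 1984) (@Cfsg.Agent.H902.Art.Sh.ctorIdx @Cfsg.Agent.H902.Art.Sh.Ree)) → @List.{0} (@Prod.{0, 0} @Nat @Bool))) => @x1 (@Nat.ne_of_beq_eq_false (@Nat.land (@OfNat.ofNat.{0} @Nat (nat_lit 1) (@instOfNatNat (nat_lit 1))) (@Nat.shiftRight (nat_lit 1984) (nat_lit 13))) (@OfNat.ofNat.{0} @Nat (nat_lit 1) (@instOfNatNat (nat_lit 1))) (@Eq.refl.{1} @Bool @Bool.false))) @(fun (x1 : ((@Nat.hasNotBit (nat_lit 1984) (@Cfsg.Agent.H902.Art.Sh.ctorIdx @Cfsg.Agent.H902.Art.Sh.TF4)) → @List.{0} (@Prod.{0, 0}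 @Nat @Bool))) => @x1 (@Nat.ne_of_beq_eq_false (@Nat.land (@OfNat.ofNat.{0} @Nat (nat_lit 1) (@instOfNatNat (nat_lit 1))) (@Nat.shiftRight (nat_lit 1984) (nat_lit 14))) (@OfNat.ofNat.{0} @Nat (nat_lit 1) (@instOfNatNat (nat_lit 1))) (@Eq.refl.{1} @Bool @Bool.false))) @x0 @(fun (x1 : @Nat.hasNotBit (nat_lit 1984) (@Cfsg.Agent.H902.Art.Sh.ctorIdx @x0)) => @List.nil.{0} (@Prod.{0, 0} @Nat @Bool)))) ?_); (try delta Cfsg.Agent.TH.Ex.Si.dg'); (try generalize @Cfsg.Agent.H902.Art.Sh.ctorIdx = g0); rfl') | exact @Cfsg.Agent.TH.Ex.Si.dg' | exact ()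
private theorem _root_.Cfsg.Agent.KOea38f1d.e25 : (by first | exact @Cfsg.Agent.TH.Ex.Si.dg' = @_root_.Cfsg.Agent.KOea38f1d.k25 | exact True : Prop) := by first | (delta _root_.Cfsg.Agent.KOea38f1d.k25; exact @Subtype.property _ (fun g => @Cfsg.Agent.TH.Ex.Si.dg' = @g) _) | rfl | trivial
private noncomputable def _root_.Cfsg.Agent.KOea38f1d.k26 : (by first | exact type_of% @Cfsg.Agent.TH.Ex.Si.ar | exact Unit : Sort _) := by first | (refine @Subtype.val _ (fun g => @Cfsg.Agent.TH.Ex.Si.ar = @g) (@Subtype.mk _ _ (@(fun x0 x1 x2 => @List.rec.{1, 0} (ℕ × @Bool) @(fun x3 => @Bool) @Bool.true @(fun x3 x4 x5 => @Bool.rec.{1} @(fun x6 => @Bool) @x5 @Bool.false (@Nat.beq (@Nat.mod (@Cfsg.Agent.KOea38f1d.k23 @x1 @x3) @x0) (nat_lit 0))) @x2)) ?_); rewrite [← Cfsg.Agent.KOea38f1d.e23]; (try delta Cfsg.Agent.TH.Ex.Si.ar); (try generalize @Cfsg.Agent.TH.Ex.Si.fr = g0); rfl') | exact @Cfsg.Agent.TH.Ex.Si.ar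 | exact ()
private theorem _root_.Cfsg.Agent.KOea38f1d.e26 : (by first | exact @Cfsg.Agent.TH.Ex.Si.ar = @_root_.Cfsg.Agent.KOea38f1d.k26 | exact True : Prop) := by first | (delta _root_.Cfsg.Agent.KOea38f1d.k26; exact @Subtype.property _ (fun g => @Cfsg.Agent.TH.Ex.Si.ar = @g) _) | rfl | trivial
private noncomputable def _root_.Cfsg.Agent.KOea38f1d.k27 : (by first | exact type_of% @Cfsg.Agent.TH.Ex.Si.nN | exact Unit : Sort _) := by first | (refine @Subtype.val _ (fun g => @Cfsg.Agent.TH.Ex.Si.nN = @g) (@Subtype.mk _ _ (@(fun x0 x1 x2 x3 x4 x5 => @Bool.rec.{1} @(fun x6 => @Bool) @Bool.true (@Bool.rec.{1} @(fun x6 => @Bool) @Bool.false (@Nat.beq (@Nat.mod (@Nat.mul (@Nat.gcd (@Cfsg.Agent.KOea38f1d.k22 @x0 @x5) @x1) @x2) (@Nat.mul @x1 (@Cfsg.Agent.KOea38f1d.k24 @x4 @x5 (((nat_lit 2, @Bool.false)) :: (@Cfsg.Agent.KOea38f1d.k25 @x0))))) (nat_lit 0)) (@Cfsg.Agent.KOea38f1d.k26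 @x4 @x5 (((nat_lit 2, @Bool.false)) :: (@Cfsg.Agent.KOea38f1d.k25 @x0)))) (@Nat.beq (@Nat.mod (@Nat.mul (@Nat.gcd (@Cfsg.Agent.KOea38f1d.k22 @x0 @x5) @x1) @x3) (@Cfsg.Agent.KOea38f1d.k24 @x4 @x5 (((nat_lit 2, @Bool.false)) :: (@Cfsg.Agent.KOea38f1d.k25 @x0)))) (nat_lit 0)))) ?_); rewrite [← Cfsg.Agent.KOea38f1d.e26, ← Cfsg.Agent.KOea38f1d.e25, ← Cfsg.Agent.KOea38f1d.e24, ← Cfsg.Agent.KOea38f1d.e22]; (try delta Cfsg.Agent.TH.Ex.Si.nN Cfsg.Agent.TH.Ex.Si.dg); (try generalize @Cfsg.Agent.H902.Art.dd = g0); (try generalize @Cfsg.Agent.TH.Ex.Si.pr = g1); (try generalize @Cfsg.Agent.TH.Ex.Si.dg' = g2); (try generalize @Cfsg.Agent.TH.Ex.Si.ar = g3); rfl') | exact @Cfsg.Agent.TH.Ex.Si.nN | exact ()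
private theorem _root_.Cfsg.Agent.KOea38f1d.e27 : (by first | exact @Cfsg.Agent.TH.Ex.Si.nN = @_root_.Cfsg.Agent.KOea38f1d.k27 | exact True : Prop) := by first | (delta _root_.Cfsg.Agent.KOea38f1d.k27; exact @Subtype.property _ (fun g => @Cfsg.Agent.TH.Ex.Si.nN = @g) _) | rfl | trivial
private noncomputable def _root_.Cfsg.Agent.KOea38f1d.k28 : (by first | exact type_of% @Cfsg.Agent.TH.Ex.Si.nR | exact Unit : Sort _) := by first | (refine @Subtype.val _ (fun g => @Cfsg.Agent.TH.Ex.Si.nR = @g) (@Subtype.mk _ _ (@(fun x0 x1 x2 x3 x4 => @Nat.rec.{1} @(fun x5 => ℕ → ℕ → @Bool) @(fun x5 x6 => @Bool.false) @(fun x5 x6 x7 x8 => @Bool.rec.{1} @(fun x9 => @Bool) (@Cfsg.Agent.KOea38f1d.k19 _ (@Nat.mul @x7 @x1) @(fun x9 => @Cfsg.Agent.KOea38f1d.k11.{0} _ (@Cfsg.Agent.KOea38f1d.k21 @x1 []) @(fun x10 => @Cfsg.Agent.KOea38f1d.k19 _ (@Nat.add @x8 (@Nat.mul @x7 @x10)) (@x6 @x9)))) @Bool.true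 (@Cfsg.Agent.KOea38f1d.k27 @x0 @x1 @x2 @x3 @x7 @x8)) @x4)) ?_); rewrite [← Cfsg.Agent.KOea38f1d.e27, ← Cfsg.Agent.KOea38f1d.e21, ← Cfsg.Agent.KOea38f1d.e11.{0}, ← Cfsg.Agent.KOea38f1d.e19]; (try delta Cfsg.Agent.TH.Ex.Si.nR); (try generalize @Cfsg.Agent.H252.EN.force = g0); (try generalize @Cfsg.Agent.TH.Ex.Si.nN = g1); rfl') | exact @Cfsg.Agent.TH.Ex.Si.nR | exact ()
private theorem _root_.Cfsg.Agent.KOea38f1d.e28 : (by first | exact @Cfsg.Agent.TH.Ex.Si.nR = @_root_.Cfsg.Agent.KOea38f1d.k28 | exact True : Prop) := by first | (delta _root_.Cfsg.Agent.KOea38f1d.k28; exact @Subtype.property _ (fun g => @Cfsg.Agent.TH.Ex.Si.nR = @g) _) | rfl | trivial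
private noncomputable def _root_.Cfsg.Agent.KOea38f1d.k29 : (by first | exact type_of% @Cfsg.Agent.TH.Ex.Si.sT | exact Unit : Sort _) := by first | (refine @Subtype.val _ (fun g => @Cfsg.Agent.TH.Ex.Si.sT = @g) (@Subtype.mk _ _ (@(fun x0 x1 x2 x3 x4 => @List.rec.{1, 0} ℕ @(fun x5 => ℕ → ℕ → @Bool) @x3 @(fun x5 x6 x7 x8 x9 => @Bool.rec.{1} @(fun x10 => @Bool) (@x7 @x8 @x9) (@Cfsg.Agent.KOea38f1d.k19 _ (@Nat.div @x9 (@Nat.gcd @x9 (@Nat.pow @x5 (nat_lit 100)))) (@x7 @x5)) (@Bool.rec.{1} @(fun x10 => @Bool) @Bool.false (@Cfsg.Agent.KOea38f1d.k11.{0} _ (@Cfsg.Agent.KOea38f1d.k21 @x5 []) @(fun x10 => @Bool.rec.{1} @(fun x11 => @Bool) (@Cfsg.Agent.KOea38f1d.k28 @x0 @x5 @x1 @x2 (nat_lit 20) @x5 @x10) @Bool.true (@Nat.beq @x10 (nat_lit 0)))) (@Nat.beq (@Nat.mod @x1 @x5) (nat_lit 0)))) @x4)) ?_); rewrite [← Cfsg.Agent.KOea38f1d.e28, ← Cfsg.Agent.KOea38f1d.e21, ← Cfsg.Agent.KOea38f1d.e11.{0},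 ← Cfsg.Agent.KOea38f1d.e19]; (try delta Cfsg.Agent.TH.Ex.Si.sT); (try generalize @Cfsg.Agent.H252.EN.force = g0); (try generalize @Cfsg.Agent.TH.Ex.Si.nR = g1); rfl') | exact @Cfsg.Agent.TH.Ex.Si.sT | exact ()
private theorem _root_.Cfsg.Agent.KOea38f1d.e29 : (by first | exact @Cfsg.Agent.TH.Ex.Si.sT = @_root_.Cfsg.Agent.KOea38f1d.k29 | exact True : Prop) := by first | (delta _root_.Cfsg.Agent.KOea38f1d.k29; exact @Subtype.property _ (fun g => @Cfsg.Agent.TH.Ex.Si.sT = @g) _) | rfl | trivial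
private noncomputable def _root_.Cfsg.Agent.KOea38f1d.k30 : (by first | exact type_of% @Cfsg.Agent.TH.Ex.Si.kk | exact Unit : Sort _) := by first | (refine @Subtype.val _ (fun g => @Cfsg.Agent.TH.Ex.Si.kk = @g) (@Subtype.mk _ _ (@(fun (x0 : @Cfsg.Agent.H902.Art.Sh) => @Cfsg.Agent.H902.Art.Sh.rec.{1} @(fun (x1 : @Cfsg.Agent.H902.Art.Sh) => (((@Nat.hasNotBit (nat_lit 320) (@Cfsg.Agent.H902.Art.Sh.ctorIdx @x1)) → @Nat) → @Nat)) @(fun (x1 : @Nat) (x2 : ((@Nat.hasNotBit (nat_lit 320) (@Cfsg.Agent.H902.Art.Sh.ctorIdx (@Cfsg.Agent.H902.Art.Sh.L @x1))) → @Nat)) => @x2 (@Nat.ne_of_beq_eq_false (@Nat.land (@OfNat.ofNat.{0} @Nat (nat_lit 1) (@instOfNatNat (nat_lit 1))) (@Nat.shiftRight (nat_lit 320) (nat_lit 0))) (@OfNat.ofNat.{0} @Nat (nat_lit 1) (@instOfNatNat (nat_lit 1))) (@Eq.refl.{1} @Bool @Bool.false))) @(fun (x1 : @Nat) (x2 : ((@Nat.hasNotBit (nat_lit 320) (@Cfsg.Agent.H902.Art.Sh.ctorIdx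 (@Cfsg.Agent.H902.Art.Sh.C @x1))) → @Nat)) => @x2 (@Nat.ne_of_beq_eq_false (@Nat.land (@OfNat.ofNat.{0} @Nat (nat_lit 1) (@instOfNatNat (nat_lit 1))) (@Nat.shiftRight (nat_lit 320) (nat_lit 1))) (@OfNat.ofNat.{0} @Nat (nat_lit 1) (@instOfNatNat (nat_lit 1))) (@Eq.refl.{1} @Bool @Bool.false))) @(fun (x1 : @Nat) (x2 : ((@Nat.hasNotBit (nat_lit 320) (@Cfsg.Agent.H902.Art.Sh.ctorIdx (@Cfsg.Agent.H902.Art.Sh.U @x1))) → @Nat)) => @x2 (@Nat.ne_of_beq_eq_false (@Nat.land (@OfNat.ofNat.{0} @Nat (nat_lit 1) (@instOfNatNat (nat_lit 1))) (@Nat.shiftRight (nat_lit 320) (nat_lit 2))) (@OfNat.ofNat.{0} @Nat (nat_lit 1) (@instOfNatNat (nat_lit 1))) (@Eq.refl.{1} @Bool @Bool.false))) @(fun (x1 : @Nat) (x2 : ((@Nat.hasNotBit (nat_lit 320) (@Cfsg.Agent.H902.Art.Sh.ctorIdx (@Cfsg.Agent.H902.Art.Sh.D @x1))) → @Nat)) => @x2 (@Nat.ne_of_beq_eq_false (@Nat.land (@OfNat.ofNat.{0} @Nat (nat_lit 1) (@instOfNatNat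 (nat_lit 1))) (@Nat.shiftRight (nat_lit 320) (nat_lit 3))) (@OfNat.ofNat.{0} @Nat (nat_lit 1) (@instOfNatNat (nat_lit 1))) (@Eq.refl.{1} @Bool @Bool.false))) @(fun (x1 : @Nat) (x2 : ((@Nat.hasNotBit (nat_lit 320) (@Cfsg.Agent.H902.Art.Sh.ctorIdx (@Cfsg.Agent.H902.Art.Sh.DD @x1))) → @Nat)) => @x2 (@Nat.ne_of_beq_eq_false (@Nat.land (@OfNat.ofNat.{0} @Nat (nat_lit 1) (@instOfNatNat (nat_lit 1))) (@Nat.shiftRight (nat_lit 320) (nat_lit 4))) (@OfNat.ofNat.{0} @Nat (nat_lit 1) (@instOfNatNat (nat_lit 1))) (@Eq.refl.{1} @Bool @Bool.false))) @(fun (x1 : ((@Nat.hasNotBit (nat_lit 320) (@Cfsg.Agent.H902.Art.Sh.ctorIdx @Cfsg.Agent.H902.Art.Sh.G2)) → @Nat)) => @x1 (@Nat.ne_of_beq_eq_false (@Nat.land (@OfNat.ofNat.{0} @Nat (nat_lit 1) (@instOfNatNat (nat_lit 1))) (@Nat.shiftRight (nat_lit 320) (nat_lit 5))) (@OfNat.ofNat.{0} @Nat (nat_lit 1) (@instOfNatNat (nat_lit 1))) (@Eq.refl.{1} @Bool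 @Bool.false))) @(fun (x1 : ((@Nat.hasNotBit (nat_lit 320) (@Cfsg.Agent.H902.Art.Sh.ctorIdx @Cfsg.Agent.H902.Art.Sh.F4)) → @Nat)) => nat_lit 8) @(fun (x1 : ((@Nat.hasNotBit (nat_lit 320) (@Cfsg.Agent.H902.Art.Sh.ctorIdx @Cfsg.Agent.H902.Art.Sh.E6)) → @Nat)) => @x1 (@Nat.ne_of_beq_eq_false (@Nat.land (@OfNat.ofNat.{0} @Nat (nat_lit 1) (@instOfNatNat (nat_lit 1))) (@Nat.shiftRight (nat_lit 320) (nat_lit 7))) (@OfNat.ofNat.{0} @Nat (nat_lit 1) (@instOfNatNat (nat_lit 1))) (@Eq.refl.{1} @Bool @Bool.false))) @(fun (x1 : ((@Nat.hasNotBit (nat_lit 320) (@Cfsg.Agent.H902.Art.Sh.ctorIdx @Cfsg.Agent.H902.Art.Sh.E7)) → @Nat)) => nat_lit 128) @(fun (x1 : ((@Nat.hasNotBit (nat_lit 320) (@Cfsg.Agent.H902.Art.Sh.ctorIdx @Cfsg.Agent.H902.Art.Sh.E8)) → @Nat)) => @x1 (@Nat.ne_of_beq_eq_false (@Nat.land (@OfNat.ofNat.{0} @Nat (nat_lit 1) (@instOfNatNat (nat_lit 1))) (@Nat.shiftRight (nat_lit 320)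 (nat_lit 9))) (@OfNat.ofNat.{0} @Nat (nat_lit 1) (@instOfNatNat (nat_lit 1))) (@Eq.refl.{1} @Bool @Bool.false))) @(fun (x1 : ((@Nat.hasNotBit (nat_lit 320) (@Cfsg.Agent.H902.Art.Sh.ctorIdx @Cfsg.Agent.H902.Art.Sh.TE6)) → @Nat)) => @x1 (@Nat.ne_of_beq_eq_false (@Nat.land (@OfNat.ofNat.{0} @Nat (nat_lit 1) (@instOfNatNat (nat_lit 1))) (@Nat.shiftRight (nat_lit 320) (nat_lit 10))) (@OfNat.ofNat.{0} @Nat (nat_lit 1) (@instOfNatNat (nat_lit 1))) (@Eq.refl.{1} @Bool @Bool.false))) @(fun (x1 : ((@Nat.hasNotBit (nat_lit 320) (@Cfsg.Agent.H902.Art.Sh.ctorIdx @Cfsg.Agent.H902.Art.Sh.TD4)) → @Nat)) => @x1 (@Nat.ne_of_beq_eq_false (@Nat.land (@OfNat.ofNat.{0} @Nat (nat_lit 1) (@instOfNatNat (nat_lit 1))) (@Nat.shiftRight (nat_lit 320) (nat_lit 11))) (@OfNat.ofNat.{0} @Nat (nat_lit 1) (@instOfNatNat (nat_lit 1))) (@Eq.refl.{1} @Bool @Bool.false))) @(fun (x1 : ((@Nat.hasNotBit (nat_lit 320)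 (@Cfsg.Agent.H902.Art.Sh.ctorIdx @Cfsg.Agent.H902.Art.Sh.Sz)) → @Nat)) => @x1 (@Nat.ne_of_beq_eq_false (@Nat.land (@OfNat.ofNat.{0} @Nat (nat_lit 1) (@instOfNatNat (nat_lit 1))) (@Nat.shiftRight (nat_lit 320) (nat_lit 12))) (@OfNat.ofNat.{0} @Nat (nat_lit 1) (@instOfNatNat (nat_lit 1))) (@Eq.refl.{1} @Bool @Bool.false))) @(fun (x1 : ((@Nat.hasNotBit (nat_lit 320) (@Cfsg.Agent.H902.Art.Sh.ctorIdx @Cfsg.Agent.H902.Art.Sh.Ree)) → @Nat)) => @x1 (@Nat.ne_of_beq_eq_false (@Nat.land (@OfNat.ofNat.{0} @Nat (nat_lit 1) (@instOfNatNat (nat_lit 1))) (@Nat.shiftRight (nat_lit 320) (nat_lit 13))) (@OfNat.ofNat.{0} @Nat (nat_lit 1) (@instOfNatNat (nat_lit 1))) (@Eq.refl.{1} @Bool @Bool.false))) @(fun (x1 : ((@Nat.hasNotBit (nat_lit 320) (@Cfsg.Agent.H902.Art.Sh.ctorIdx @Cfsg.Agent.H902.Art.Sh.TF4)) → @Nat)) => @x1 (@Nat.ne_of_beq_eq_false (@Nat.land (@OfNat.ofNat.{0} @Nat (nat_lit 1) (@instOfNatNat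 (nat_lit 1))) (@Nat.shiftRight (nat_lit 320) (nat_lit 14))) (@OfNat.ofNat.{0} @Nat (nat_lit 1) (@instOfNatNat (nat_lit 1))) (@Eq.refl.{1} @Bool @Bool.false))) @x0 @(fun (x1 : @Nat.hasNotBit (nat_lit 320) (@Cfsg.Agent.H902.Art.Sh.ctorIdx @x0)) => nat_lit 64))) ?_); (try delta Cfsg.Agent.TH.Ex.Si.kk); (try generalize @Cfsg.Agent.H902.Art.Sh.ctorIdx = g0); rfl') | exact @Cfsg.Agent.TH.Ex.Si.kk | exact ()
private theorem _root_.Cfsg.Agent.KOea38f1d.e30 : (by first | exact @Cfsg.Agent.TH.Ex.Si.kk = @_root_.Cfsg.Agent.KOea38f1d.k30 | exact True : Prop) := by first | (delta _root_.Cfsg.Agent.KOea38f1d.k30; exact @Subtype.property _ (fun g => @Cfsg.Agent.TH.Ex.Si.kk = @g) _) | rfl | trivial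
private noncomputable def _root_.Cfsg.Agent.KOea38f1d.k31 : (by first | exact type_of% @Cfsg.Agent.TH.Ex.Si.allU | exact Unit : Sort _) := by first | (refine @Subtype.val _ (fun g => @Cfsg.Agent.TH.Ex.Si.allU = @g) (@Subtype.mk _ _ (@(fun x0 x1 x2 => @Nat.rec.{1} @(fun x3 => ℕ → @Bool) @(fun x3 => @Bool.false) @(fun x3 x4 x5 => @Bool.rec.{1} @(fun x6 => @Bool) (@Bool.rec.{1} @(fun x6 => @Bool) @Bool.false (@Cfsg.Agent.KOea38f1d.k19 _ (@Nat.succ @x5) @x4) (@x1 @x5)) @Bool.true (@x0 @x5)) @x2)) ?_); rewrite [← Cfsg.Agent.KOea38f1d.e19]; (try delta Cfsg.Agent.TH.Ex.Si.allU); (try generalize @Cfsg.Agent.H252.EN.force = g0); rfl') | exact @Cfsg.Agent.TH.Ex.Si.allU | exact ()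
private theorem _root_.Cfsg.Agent.KOea38f1d.e31 : (by first | exact @Cfsg.Agent.TH.Ex.Si.allU = @_root_.Cfsg.Agent.KOea38f1d.k31 | exact True : Prop) := by first | (delta _root_.Cfsg.Agent.KOea38f1d.k31; exact @Subtype.property _ (fun g => @Cfsg.Agent.TH.Ex.Si.allU = @g) _) | rfl | trivial
private noncomputable def _root_.Cfsg.Agent.KOea38f1d.k32 : (by first | exact type_of% @Cfsg.Agent.TH.Ex.Si.e1 | exact Unit : Sort _) := by first | (refine @Subtype.val _ (fun g => @Cfsg.Agent.TH.Ex.Si.e1 = @g) (@Subtype.mk _ _ (@(fun (x0 : @Cfsg.Agent.H902.Art.Sh) => @Cfsg.Agent.H902.Art.Sh.rec.{1} @(fun (x1 : @Cfsg.Agent.H902.Art.Sh) => (((@Nat.hasNotBit (nat_lit 832) (@Cfsg.Agent.H902.Art.Sh.ctorIdx @x1)) → @Nat) → @Nat)) @(fun (x1 : @Nat) (x2 : ((@Nat.hasNotBit (nat_lit 832) (@Cfsg.Agent.H902.Art.Sh.ctorIdx (@Cfsg.Agent.H902.Art.Sh.L @x1))) → @Nat)) => @x2 (@Nat.ne_of_beq_eq_false (@Nat.land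 (@OfNat.ofNat.{0} @Nat (nat_lit 1) (@instOfNatNat (nat_lit 1))) (@Nat.shiftRight (nat_lit 832) (nat_lit 0))) (@OfNat.ofNat.{0} @Nat (nat_lit 1) (@instOfNatNat (nat_lit 1))) (@Eq.refl.{1} @Bool @Bool.false))) @(fun (x1 : @Nat) (x2 : ((@Nat.hasNotBit (nat_lit 832) (@Cfsg.Agent.H902.Art.Sh.ctorIdx (@Cfsg.Agent.H902.Art.Sh.C @x1))) → @Nat)) => @x2 (@Nat.ne_of_beq_eq_false (@Nat.land (@OfNat.ofNat.{0} @Nat (nat_lit 1) (@instOfNatNat (nat_lit 1))) (@Nat.shiftRight (nat_lit 832) (nat_lit 1))) (@OfNat.ofNat.{0} @Nat (nat_lit 1) (@instOfNatNat (nat_lit 1))) (@Eq.refl.{1} @Bool @Bool.false))) @(fun (x1 : @Nat) (x2 : ((@Nat.hasNotBit (nat_lit 832) (@Cfsg.Agent.H902.Art.Sh.ctorIdx (@Cfsg.Agent.H902.Art.Sh.U @x1))) → @Nat)) => @x2 (@Nat.ne_of_beq_eq_false (@Nat.land (@OfNat.ofNat.{0} @Nat (nat_lit 1) (@instOfNatNat (nat_lit 1))) (@Nat.shiftRight (nat_lit 832) (nat_lit 2))) (@OfNat.ofNat.{0}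 @Nat (nat_lit 1) (@instOfNatNat (nat_lit 1))) (@Eq.refl.{1} @Bool @Bool.false))) @(fun (x1 : @Nat) (x2 : ((@Nat.hasNotBit (nat_lit 832) (@Cfsg.Agent.H902.Art.Sh.ctorIdx (@Cfsg.Agent.H902.Art.Sh.D @x1))) → @Nat)) => @x2 (@Nat.ne_of_beq_eq_false (@Nat.land (@OfNat.ofNat.{0} @Nat (nat_lit 1) (@instOfNatNat (nat_lit 1))) (@Nat.shiftRight (nat_lit 832) (nat_lit 3))) (@OfNat.ofNat.{0} @Nat (nat_lit 1) (@instOfNatNat (nat_lit 1))) (@Eq.refl.{1} @Bool @Bool.false))) @(fun (x1 : @Nat) (x2 : ((@Nat.hasNotBit (nat_lit 832) (@Cfsg.Agent.H902.Art.Sh.ctorIdx (@Cfsg.Agent.H902.Art.Sh.DD @x1))) → @Nat)) => @x2 (@Nat.ne_of_beq_eq_false (@Nat.land (@OfNat.ofNat.{0} @Nat (nat_lit 1) (@instOfNatNat (nat_lit 1))) (@Nat.shiftRight (nat_lit 832) (nat_lit 4))) (@OfNat.ofNat.{0} @Nat (nat_lit 1) (@instOfNatNat (nat_lit 1))) (@Eq.refl.{1} @Bool @Bool.false))) @(fun (x1 : ((@Nat.hasNotBit (nat_lit 832)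 (@Cfsg.Agent.H902.Art.Sh.ctorIdx @Cfsg.Agent.H902.Art.Sh.G2)) → @Nat)) => @x1 (@Nat.ne_of_beq_eq_false (@Nat.land (@OfNat.ofNat.{0} @Nat (nat_lit 1) (@instOfNatNat (nat_lit 1))) (@Nat.shiftRight (nat_lit 832) (nat_lit 5))) (@OfNat.ofNat.{0} @Nat (nat_lit 1) (@instOfNatNat (nat_lit 1))) (@Eq.refl.{1} @Bool @Bool.false))) @(fun (x1 : ((@Nat.hasNotBit (nat_lit 832) (@Cfsg.Agent.H902.Art.Sh.ctorIdx @Cfsg.Agent.H902.Art.Sh.F4)) → @Nat)) => nat_lit 8) @(fun (x1 : ((@Nat.hasNotBit (nat_lit 832) (@Cfsg.Agent.H902.Art.Sh.ctorIdx @Cfsg.Agent.H902.Art.Sh.E6)) → @Nat)) => @x1 (@Nat.ne_of_beq_eq_false (@Nat.land (@OfNat.ofNat.{0} @Nat (nat_lit 1) (@instOfNatNat (nat_lit 1))) (@Nat.shiftRight (nat_lit 832) (nat_lit 7))) (@OfNat.ofNat.{0} @Nat (nat_lit 1) (@instOfNatNat (nat_lit 1))) (@Eq.refl.{1} @Bool @Bool.false))) @(fun (x1 : ((@Nat.hasNotBit (nat_lit 832) (@Cfsg.Agent.H902.Art.Sh.ctorIdx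 @Cfsg.Agent.H902.Art.Sh.E7)) → @Nat)) => nat_lit 17) @(fun (x1 : ((@Nat.hasNotBit (nat_lit 832) (@Cfsg.Agent.H902.Art.Sh.ctorIdx @Cfsg.Agent.H902.Art.Sh.E8)) → @Nat)) => nat_lit 29) @(fun (x1 : ((@Nat.hasNotBit (nat_lit 832) (@Cfsg.Agent.H902.Art.Sh.ctorIdx @Cfsg.Agent.H902.Art.Sh.TE6)) → @Nat)) => @x1 (@Nat.ne_of_beq_eq_false (@Nat.land (@OfNat.ofNat.{0} @Nat (nat_lit 1) (@instOfNatNat (nat_lit 1))) (@Nat.shiftRight (nat_lit 832) (nat_lit 10))) (@OfNat.ofNat.{0} @Nat (nat_lit 1) (@instOfNatNat (nat_lit 1))) (@Eq.refl.{1} @Bool @Bool.false))) @(fun (x1 : ((@Nat.hasNotBit (nat_lit 832) (@Cfsg.Agent.H902.Art.Sh.ctorIdx @Cfsg.Agent.H902.Art.Sh.TD4)) → @Nat)) => @x1 (@Nat.ne_of_beq_eq_false (@Nat.land (@OfNat.ofNat.{0} @Nat (nat_lit 1) (@instOfNatNat (nat_lit 1))) (@Nat.shiftRight (nat_lit 832) (nat_lit 11))) (@OfNat.ofNat.{0} @Nat (nat_lit 1) (@instOfNatNat (nat_lit 1))) (@Eq.refl.{1}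 @Bool @Bool.false))) @(fun (x1 : ((@Nat.hasNotBit (nat_lit 832) (@Cfsg.Agent.H902.Art.Sh.ctorIdx @Cfsg.Agent.H902.Art.Sh.Sz)) → @Nat)) => @x1 (@Nat.ne_of_beq_eq_false (@Nat.land (@OfNat.ofNat.{0} @Nat (nat_lit 1) (@instOfNatNat (nat_lit 1))) (@Nat.shiftRight (nat_lit 832) (nat_lit 12))) (@OfNat.ofNat.{0} @Nat (nat_lit 1) (@instOfNatNat (nat_lit 1))) (@Eq.refl.{1} @Bool @Bool.false))) @(fun (x1 : ((@Nat.hasNotBit (nat_lit 832) (@Cfsg.Agent.H902.Art.Sh.ctorIdx @Cfsg.Agent.H902.Art.Sh.Ree)) → @Nat)) => @x1 (@Nat.ne_of_beq_eq_false (@Nat.land (@OfNat.ofNat.{0} @Nat (nat_lit 1) (@instOfNatNat (nat_lit 1))) (@Nat.shiftRight (nat_lit 832) (nat_lit 13))) (@OfNat.ofNat.{0} @Nat (nat_lit 1) (@instOfNatNat (nat_lit 1))) (@Eq.refl.{1} @Bool @Bool.false))) @(fun (x1 : ((@Nat.hasNotBit (nat_lit 832) (@Cfsg.Agent.H902.Art.Sh.ctorIdx @Cfsg.Agent.H902.Art.Sh.TF4)) → @Nat)) => @x1 (@Nat.ne_of_beq_eq_false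 (@Nat.land (@OfNat.ofNat.{0} @Nat (nat_lit 1) (@instOfNatNat (nat_lit 1))) (@Nat.shiftRight (nat_lit 832) (nat_lit 14))) (@OfNat.ofNat.{0} @Nat (nat_lit 1) (@instOfNatNat (nat_lit 1))) (@Eq.refl.{1} @Bool @Bool.false))) @x0 @(fun (x1 : @Nat.hasNotBit (nat_lit 832) (@Cfsg.Agent.H902.Art.Sh.ctorIdx @x0)) => nat_lit 11))) ?_); (try delta Cfsg.Agent.TH.Ex.Si.e1); (try generalize @Cfsg.Agent.H902.Art.Sh.ctorIdx = g0); rfl') | exact @Cfsg.Agent.TH.Ex.Si.e1 | exact ()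
private theorem _root_.Cfsg.Agent.KOea38f1d.e32 : (by first | exact @Cfsg.Agent.TH.Ex.Si.e1 = @_root_.Cfsg.Agent.KOea38f1d.k32 | exact True : Prop) := by first | (delta _root_.Cfsg.Agent.KOea38f1d.k32; exact @Subtype.property _ (fun g => @Cfsg.Agent.TH.Ex.Si.e1 = @g) _) | rfl | trivial
private noncomputable def _root_.Cfsg.Agent.KOea38f1d.k33 : (by first | exact type_of% @Cfsg.Agent.H902.Art.NN | exact Unit : Sort _) := by first | (refine @Subtype.val _ (fun g => @Cfsg.Agent.H902.Art.NN = @g) (@Subtype.mk _ _ (@(fun x0 => @Cfsg.Agent.H902.Art.Sh.rec.{1} @(fun x1 => ℕ) @(fun x1 => @Nat.div (@Nat.mul @x1 (@Nat.sub @x1 (nat_lit 1))) (nat_lit 2)) @(fun x1 => @Nat.pow @x1 (nat_lit 2)) @(fun x1 => @Nat.div (@Nat.mul @x1 (@Nat.sub @x1 (nat_lit 1))) (nat_lit 2)) @(fun x1 => @Nat.mul @x1 (@Nat.sub @x1 (nat_lit 1))) @(fun x1 => @Nat.mul @x1 (@Nat.sub @x1 (nat_lit 1))) (nat_lit 6) (nat_lit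 24) (nat_lit 36) (nat_lit 63) (nat_lit 120) (nat_lit 36) (nat_lit 12) (nat_lit 2) (nat_lit 3) (nat_lit 12) @x0)) ?_); rfl') | exact @Cfsg.Agent.H902.Art.NN | exact ()
private theorem _root_.Cfsg.Agent.KOea38f1d.e33 : (by first | exact @Cfsg.Agent.H902.Art.NN = @_root_.Cfsg.Agent.KOea38f1d.k33 | exact True : Prop) := by first | (delta _root_.Cfsg.Agent.KOea38f1d.k33; exact @Subtype.property _ (fun g => @Cfsg.Agent.H902.Art.NN = @g) _) | rfl | trivial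
private noncomputable def _root_.Cfsg.Agent.KOea38f1d.k34.{ku0} : type_of% @List.any.{ku0} := @(fun x0 x1 x2 => @List.rec.{(ku0+1), ku0} @x0 @(fun x3 => (@x0 → @Bool) → @Bool) @(fun x3 => @Bool.false) @(fun x3 x4 x5 x6 => @Bool.rec.{1} @(fun x7 => @Bool) (@x5 @x6) @Bool.true (@x6 @x3)) @x1 @x2)
private theorem _root_.Cfsg.Agent.KOea38f1d.e34.{ku0} : @List.any.{ku0} = @_root_.Cfsg.Agent.KOea38f1d.k34.{ku0} := by delta _root_.Cfsg.Agent.KOea38f1d.k34; funext a0 a1 a2; refine (congrFun (_root_.Cfsg.Agent.KOea38f1d.e1 (fun a1 a2 => @List.any.{ku0} a0 a1 a2) ?_ (fun c0 c1 => ?_) a1) a2 :) <;> (rfl')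
private noncomputable def _root_.Cfsg.Agent.KOea38f1d.k35 : (by first | exact type_of% @Cfsg.Agent.TH.Ex.Si.cnt | exact Unit : Sort _) := by first | (refine @Subtype.val _ (fun g => @Cfsg.Agent.TH.Ex.Si.cnt = @g) (@Subtype.mk _ _ (@(fun x0 x1 x2 => @Cfsg.Agent.KOea38f1d.k18.{1} ℕ (@Nat.mod @x1 @x2) (nat_lit 0) (@Cfsg.Agent.KOea38f1d.k18.{1} ℕ (@Nat.mod @x0 (@Nat.mul @x2 @x2)) (nat_lit 0) (@Nat.sub @x0 (@Nat.div @x0 @x2)) @x0) (@Nat.mul @x0 @x1))) ?_); rewrite [← Cfsg.Agent.KOea38f1d.e18.{1}]; rfl') | exact @Cfsg.Agent.TH.Ex.Si.cnt | exact ()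
private theorem _root_.Cfsg.Agent.KOea38f1d.e35 : (by first | exact @Cfsg.Agent.TH.Ex.Si.cnt = @_root_.Cfsg.Agent.KOea38f1d.k35 | exact True : Prop) := by first | (delta _root_.Cfsg.Agent.KOea38f1d.k35; exact @Subtype.property _ (fun g => @Cfsg.Agent.TH.Ex.Si.cnt = @g) _) | rfl | trivial
private noncomputable def _root_.Cfsg.Agent.KOea38f1d.k36 : (by first | exact type_of% @Cfsg.Agent.TH.Ex.Si.bY | exact Unit : Sort _) := by first | (refine @Subtype.val _ (fun g => @Cfsg.Agent.TH.Ex.Si.bY = @g) (@Subtype.mk _ _ (@(fun (x0 : @Cfsg.Agent.H902.Art.Sh) (x1 : @Nat) => @Cfsg.Agent.H902.Art.Sh.rec.{1} @(fun (x2 : @Cfsg.Agent.H902.Art.Sh) => (((@Nat.hasNotBit (nat_lit 832) (@Cfsg.Agent.H902.Art.Sh.ctorIdx @x2)) → @Nat) → @Nat)) @(fun (x2 : @Nat) (x3 : ((@Nat.hasNotBit (nat_lit 832) (@Cfsg.Agent.H902.Art.Sh.ctorIdx (@Cfsg.Agent.H902.Art.Sh.L @x2))) → @Nat)) => @x3 (@Nat.ne_of_beq_eq_false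 (@Nat.land (@OfNat.ofNat.{0} @Nat (nat_lit 1) (@instOfNatNat (nat_lit 1))) (@Nat.shiftRight (nat_lit 832) (nat_lit 0))) (@OfNat.ofNat.{0} @Nat (nat_lit 1) (@instOfNatNat (nat_lit 1))) (@Eq.refl.{1} @Bool @Bool.false))) @(fun (x2 : @Nat) (x3 : ((@Nat.hasNotBit (nat_lit 832) (@Cfsg.Agent.H902.Art.Sh.ctorIdx (@Cfsg.Agent.H902.Art.Sh.C @x2))) → @Nat)) => @x3 (@Nat.ne_of_beq_eq_false (@Nat.land (@OfNat.ofNat.{0} @Nat (nat_lit 1) (@instOfNatNat (nat_lit 1))) (@Nat.shiftRight (nat_lit 832) (nat_lit 1))) (@OfNat.ofNat.{0} @Nat (nat_lit 1) (@instOfNatNat (nat_lit 1))) (@Eq.refl.{1} @Bool @Bool.false))) @(fun (x2 : @Nat) (x3 : ((@Nat.hasNotBit (nat_lit 832) (@Cfsg.Agent.H902.Art.Sh.ctorIdx (@Cfsg.Agent.H902.Art.Sh.U @x2))) → @Nat)) => @x3 (@Nat.ne_of_beq_eq_false (@Nat.land (@OfNat.ofNat.{0} @Nat (nat_lit 1) (@instOfNatNat (nat_lit 1))) (@Nat.shiftRight (nat_lit 832) (nat_lit 2))) (@OfNat.ofNat.{0}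 @Nat (nat_lit 1) (@instOfNatNat (nat_lit 1))) (@Eq.refl.{1} @Bool @Bool.false))) @(fun (x2 : @Nat) (x3 : ((@Nat.hasNotBit (nat_lit 832) (@Cfsg.Agent.H902.Art.Sh.ctorIdx (@Cfsg.Agent.H902.Art.Sh.D @x2))) → @Nat)) => @x3 (@Nat.ne_of_beq_eq_false (@Nat.land (@OfNat.ofNat.{0} @Nat (nat_lit 1) (@instOfNatNat (nat_lit 1))) (@Nat.shiftRight (nat_lit 832) (nat_lit 3))) (@OfNat.ofNat.{0} @Nat (nat_lit 1) (@instOfNatNat (nat_lit 1))) (@Eq.refl.{1} @Bool @Bool.false))) @(fun (x2 : @Nat) (x3 : ((@Nat.hasNotBit (nat_lit 832) (@Cfsg.Agent.H902.Art.Sh.ctorIdx (@Cfsg.Agent.H902.Art.Sh.DD @x2))) → @Nat)) => @x3 (@Nat.ne_of_beq_eq_false (@Nat.land (@OfNat.ofNat.{0} @Nat (nat_lit 1) (@instOfNatNat (nat_lit 1))) (@Nat.shiftRight (nat_lit 832) (nat_lit 4))) (@OfNat.ofNat.{0} @Nat (nat_lit 1) (@instOfNatNat (nat_lit 1))) (@Eq.refl.{1} @Bool @Bool.false))) @(fun (x2 : ((@Nat.hasNotBit (nat_lit 832)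 (@Cfsg.Agent.H902.Art.Sh.ctorIdx @Cfsg.Agent.H902.Art.Sh.G2)) → @Nat)) => @x2 (@Nat.ne_of_beq_eq_false (@Nat.land (@OfNat.ofNat.{0} @Nat (nat_lit 1) (@instOfNatNat (nat_lit 1))) (@Nat.shiftRight (nat_lit 832) (nat_lit 5))) (@OfNat.ofNat.{0} @Nat (nat_lit 1) (@instOfNatNat (nat_lit 1))) (@Eq.refl.{1} @Bool @Bool.false))) @(fun (x2 : ((@Nat.hasNotBit (nat_lit 832) (@Cfsg.Agent.H902.Art.Sh.ctorIdx @Cfsg.Agent.H902.Art.Sh.F4)) → @Nat)) => @Nat.mul (@Nat.pow @x1 (@Cfsg.Agent.KOea38f1d.k18.{1} @Nat (@Nat.mod @x1 (nat_lit 2)) (nat_lit 0) (nat_lit 32) (nat_lit 18))) (@Nat.pow (@Nat.add @x1 (nat_lit 1)) (nat_lit 4))) @(fun (x2 : ((@Nat.hasNotBit (nat_lit 832) (@Cfsg.Agent.H902.Art.Sh.ctorIdx @Cfsg.Agent.H902.Art.Sh.E6)) → @Nat)) => @x2 (@Nat.ne_of_beq_eq_false (@Nat.land (@OfNat.ofNat.{0} @Nat (nat_lit 1) (@instOfNatNat (nat_lit 1))) (@Nat.shiftRight (nat_lit 832) (nat_lit 7))) (@OfNat.ofNat.{0}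 @Nat (nat_lit 1) (@instOfNatNat (nat_lit 1))) (@Eq.refl.{1} @Bool @Bool.false))) @(fun (x2 : ((@Nat.hasNotBit (nat_lit 832) (@Cfsg.Agent.H902.Art.Sh.ctorIdx @Cfsg.Agent.H902.Art.Sh.E7)) → @Nat)) => @Nat.mul (nat_lit 2) (@Nat.mul (@Nat.pow @x1 (nat_lit 72)) (@Nat.pow (@Nat.add @x1 (nat_lit 1)) (nat_lit 7)))) @(fun (x2 : ((@Nat.hasNotBit (nat_lit 832) (@Cfsg.Agent.H902.Art.Sh.ctorIdx @Cfsg.Agent.H902.Art.Sh.E8)) → @Nat)) => @Nat.mul (@Nat.pow @x1 (nat_lit 128)) (@Nat.pow (@Nat.add @x1 (nat_lit 1)) (nat_lit 8))) @(fun (x2 : ((@Nat.hasNotBit (nat_lit 832) (@Cfsg.Agent.H902.Art.Sh.ctorIdx @Cfsg.Agent.H902.Art.Sh.TE6)) → @Nat)) => @x2 (@Nat.ne_of_beq_eq_false (@Nat.land (@OfNat.ofNat.{0} @Nat (nat_lit 1) (@instOfNatNat (nat_lit 1))) (@Nat.shiftRight (nat_lit 832) (nat_lit 10))) (@OfNat.ofNat.{0} @Nat (nat_lit 1) (@instOfNatNat (nat_lit 1))) (@Eq.refl.{1} @Bool @Bool.false))) @(fun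 (x2 : ((@Nat.hasNotBit (nat_lit 832) (@Cfsg.Agent.H902.Art.Sh.ctorIdx @Cfsg.Agent.H902.Art.Sh.TD4)) → @Nat)) => @x2 (@Nat.ne_of_beq_eq_false (@Nat.land (@OfNat.ofNat.{0} @Nat (nat_lit 1) (@instOfNatNat (nat_lit 1))) (@Nat.shiftRight (nat_lit 832) (nat_lit 11))) (@OfNat.ofNat.{0} @Nat (nat_lit 1) (@instOfNatNat (nat_lit 1))) (@Eq.refl.{1} @Bool @Bool.false))) @(fun (x2 : ((@Nat.hasNotBit (nat_lit 832) (@Cfsg.Agent.H902.Art.Sh.ctorIdx @Cfsg.Agent.H902.Art.Sh.Sz)) → @Nat)) => @x2 (@Nat.ne_of_beq_eq_false (@Nat.land (@OfNat.ofNat.{0} @Nat (nat_lit 1) (@instOfNatNat (nat_lit 1))) (@Nat.shiftRight (nat_lit 832) (nat_lit 12))) (@OfNat.ofNat.{0} @Nat (nat_lit 1) (@instOfNatNat (nat_lit 1))) (@Eq.refl.{1} @Bool @Bool.false))) @(fun (x2 : ((@Nat.hasNotBit (nat_lit 832) (@Cfsg.Agent.H902.Art.Sh.ctorIdx @Cfsg.Agent.H902.Art.Sh.Ree)) → @Nat)) => @x2 (@Nat.ne_of_beq_eq_false (@Nat.land (@OfNat.ofNat.{0}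 @Nat (nat_lit 1) (@instOfNatNat (nat_lit 1))) (@Nat.shiftRight (nat_lit 832) (nat_lit 13))) (@OfNat.ofNat.{0} @Nat (nat_lit 1) (@instOfNatNat (nat_lit 1))) (@Eq.refl.{1} @Bool @Bool.false))) @(fun (x2 : ((@Nat.hasNotBit (nat_lit 832) (@Cfsg.Agent.H902.Art.Sh.ctorIdx @Cfsg.Agent.H902.Art.Sh.TF4)) → @Nat)) => @x2 (@Nat.ne_of_beq_eq_false (@Nat.land (@OfNat.ofNat.{0} @Nat (nat_lit 1) (@instOfNatNat (nat_lit 1))) (@Nat.shiftRight (nat_lit 832) (nat_lit 14))) (@OfNat.ofNat.{0} @Nat (nat_lit 1) (@instOfNatNat (nat_lit 1))) (@Eq.refl.{1} @Bool @Bool.false))) @x0 @(fun (x2 : @Nat.hasNotBit (nat_lit 832) (@Cfsg.Agent.H902.Art.Sh.ctorIdx @x0)) => @Nat.mul (@Nat.pow @x1 (nat_lit 40)) (@Nat.pow (@Nat.add @x1 (nat_lit 1)) (nat_lit 6))))) ?_); rewrite [← Cfsg.Agent.KOea38f1d.e18.{1}]; (try delta Cfsg.Agent.TH.Ex.Si.bY); (try generalize @Cfsg.Agent.H902.Art.Sh.ctorIdx = g0); rfl') | exact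 @Cfsg.Agent.TH.Ex.Si.bY | exact ()
private theorem _root_.Cfsg.Agent.KOea38f1d.e36 : (by first | exact @Cfsg.Agent.TH.Ex.Si.bY = @_root_.Cfsg.Agent.KOea38f1d.k36 | exact True : Prop) := by first | (delta _root_.Cfsg.Agent.KOea38f1d.k36; exact @Subtype.property _ (fun g => @Cfsg.Agent.TH.Ex.Si.bY = @g) _) | rfl | trivial
private noncomputable def _root_.Cfsg.Agent.KOea38f1d.k37 : (by first | exact type_of% @Cfsg.Agent.TH.Ex.Si.bS | exact Unit : Sort _) := by first | (refine @Subtype.val _ (fun g => @Cfsg.Agent.TH.Ex.Si.bS = @g) (@Subtype.mk _ _ (@(fun x0 x1 x2 => @Decidable.rec.{1} _ @(fun x3 => ℕ) @(fun x3 => @Cfsg.Agent.KOea38f1d.k36 @x0 @x1) @(fun x3 => nat_lit 100800) (@Cfsg.Agent.KOea38f1d.k3 _ _ (@Cfsg.Agent.H902.Art.instDecidableEqSh.decEq @x0 @Cfsg.Agent.H902.Art.Sh.TE6) (@Cfsg.Agent.KOea38f1d.k3 _ _ (@Cfsg.Agent.KOea38f1d.k8 @x1 (nat_lit 2)) (@Cfsg.Agent.KOea38f1d.k8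 @x2 (nat_lit 5)))))) ?_); rewrite [← Cfsg.Agent.KOea38f1d.e8, ← Cfsg.Agent.KOea38f1d.e3, ← Cfsg.Agent.KOea38f1d.e36]; (try delta Cfsg.Agent.TH.Ex.Si.bS Cfsg.Agent.H902.Art.instDecidableEqSh); (try generalize @Cfsg.Agent.TH.Ex.Si.bY = g0); (try generalize @Cfsg.Agent.H902.Art.instDecidableEqSh.decEq = g1); rfl') | exact @Cfsg.Agent.TH.Ex.Si.bS | exact ()
private theorem _root_.Cfsg.Agent.KOea38f1d.e37 : (by first | exact @Cfsg.Agent.TH.Ex.Si.bS = @_root_.Cfsg.Agent.KOea38f1d.k37 | exact True : Prop) := by first | (delta _root_.Cfsg.Agent.KOea38f1d.k37; exact @Subtype.property _ (fun g => @Cfsg.Agent.TH.Ex.Si.bS = @g) _) | rfl | trivial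
private noncomputable def _root_.Cfsg.Agent.KOea38f1d.k38 : type_of% @Nat.factorial := @(fun x0 => @Nat.rec.{1} @(fun x1 => ℕ) (nat_lit 1) @(fun x1 x2 => @Nat.mul (@Nat.succ @x1) @x2) @x0)
private theorem _root_.Cfsg.Agent.KOea38f1d.e38 : @Nat.factorial = @_root_.Cfsg.Agent.KOea38f1d.k38 := by delta _root_.Cfsg.Agent.KOea38f1d.k38; funext a0; refine (_root_.Cfsg.Agent.KOea38f1d.e20 (fun a0 => @Nat.factorial a0) ?_ (fun c0 => ?_) a0 :) <;> (rfl')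
private noncomputable def _root_.Cfsg.Agent.KOea38f1d.k39 : (by first | exact type_of% @Cfsg.Agent.TH.Ex.Si.dead | exact Unit : Sort _) := by first | (refine @Subtype.val _ (fun g => @Cfsg.Agent.TH.Ex.Si.dead = @g) (@Subtype.mk _ _ (@(fun x0 x1 x2 x3 x4 x5 => @Bool.rec.{1} @(fun x6 => @Bool) (@Cfsg.Agent.KOea38f1d.k19 _ (@Nat.sub (@Nat.div @x5 (@Nat.mul @x2 @x3)) (nat_lit 1)) @(fun x6 => @Cfsg.Agent.KOea38f1d.k19 _ (@Nat.gcd @x2 @x6) @(fun x7 => @Bool.rec.{1} @(fun x8 => @Bool) (@Bool.rec.{1} @(fun x8 => @Bool) (@Cfsg.Agent.KOea38f1d.k34.{0} _ @Cfsg.Agent.H290.ElTab.prs @(fun x8 => @Bool.rec.{1} @(fun x9 => @Bool) @Bool.false (@Bool.rec.{1} @(fun x9 => @Bool) @Bool.false (@Bool.rec.{1} @(fun x9 => @Bool) @Bool.false (@Nat.ble (@Nat.succ (@Nat.mul (@Nat.mul @x7 (@Cfsg.Agent.KOea38f1d.k35 @x2 @x3 @x8)) (@Cfsg.Agent.KOea38f1d.k37 @x0 @x1 @x8))) @x5) (@Bool.rec.{1} @(fun x9 =>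 @Bool) @Bool.true @Bool.false (@Cfsg.Agent.KOea38f1d.k18.{1} @Bool (@Nat.mod @x1 @x8) (nat_lit 0) @Bool.false @Bool.true))) (@Bool.rec.{1} @(fun x9 => @Bool) @Bool.true @Bool.false (@Cfsg.Agent.KOea38f1d.k18.{1} @Bool (@Nat.mod @x6 @x8) (nat_lit 0) @Bool.false @Bool.true))) (@Cfsg.Agent.KOea38f1d.k18.{1} @Bool (@Nat.mod @x2 @x8) (nat_lit 0) @Bool.false @Bool.true))) @Bool.true (@Bool.rec.{1} @(fun x8 => @Bool) @Bool.false (@Bool.rec.{1} @(fun x8 => @Bool) @Bool.true @Bool.false (@Cfsg.Agent.KOea38f1d.k18.{1} @Bool (@Nat.mod (@Cfsg.Agent.KOea38f1d.k38 @x7) @x2) (nat_lit 0) @Bool.false @Bool.true)) (@Nat.ble @x7 (nat_lit 100)))) @Bool.true (@Cfsg.Agent.KOea38f1d.k18.{1} @Bool (@Nat.mod @x4 @x7) (nat_lit 0) @Bool.false @Bool.true)))) @Bool.true (@Bool.rec.{1} @(fun x6 => @Bool) @Bool.true @Bool.false (@Cfsg.Agent.KOea38f1d.k18.{1} @Bool (@Nat.mod @x5 (@Nat.mul @x2 @x3)) (nat_lit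 0) @Bool.false @Bool.true)))) ?_); rewrite [← Cfsg.Agent.KOea38f1d.e38, ← Cfsg.Agent.KOea38f1d.e18.{1}, ← Cfsg.Agent.KOea38f1d.e37, ← Cfsg.Agent.KOea38f1d.e35, ← Cfsg.Agent.KOea38f1d.e34.{0}, ← Cfsg.Agent.KOea38f1d.e19]; (try delta Cfsg.Agent.TH.Ex.Si.dead); (try generalize @Cfsg.Agent.H252.EN.force = g0); (try generalize @Cfsg.Agent.H290.ElTab.prs = g1); (try generalize @Cfsg.Agent.TH.Ex.Si.cnt = g2); (try generalize @Cfsg.Agent.TH.Ex.Si.bS = g3); rfl') | exact @Cfsg.Agent.TH.Ex.Si.dead | exact ()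
private theorem _root_.Cfsg.Agent.KOea38f1d.e39 : (by first | exact @Cfsg.Agent.TH.Ex.Si.dead = @_root_.Cfsg.Agent.KOea38f1d.k39 | exact True : Prop) := by first | (delta _root_.Cfsg.Agent.KOea38f1d.k39; exact @Subtype.property _ (fun g => @Cfsg.Agent.TH.Ex.Si.dead = @g) _) | rfl | trivial
private noncomputable def _root_.Cfsg.Agent.KOea38f1d.k40 : (by first | exact type_of% @Cfsg.Agent.TH.Ex.Si.deadQ | exact Unit : Sort _) := by first | (refine @Subtype.val _ (fun g => @Cfsg.Agent.TH.Ex.Si.deadQ = @g) (@Subtype.mk _ _ (@(fun x0 x1 x2 x3 x4 x5 => @Bool.rec.{1} @(fun x6 => @Bool) (@Cfsg.Agent.KOea38f1d.k19 _ (@Nat.div (@Nat.mul (@Nat.pow @x5 (@Cfsg.Agent.KOea38f1d.k33 @x0)) (@Cfsg.Agent.H902.Art.num @x0 @x5)) (@Cfsg.Agent.KOea38f1d.k22 @x0 @x5)) @(fun x6 => @Bool.rec.{1} @(fun x7 => @Bool) (@Cfsg.Agent.KOea38f1d.k11.{0} _ (@Cfsg.Agent.KOea38f1d.k21 @x3 []) @(fun x7 => @Bool.rec.{1}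 @(fun x8 => @Bool) (@Cfsg.Agent.KOea38f1d.k39 @x0 @x5 @x1 (@Nat.add @x7 (nat_lit 1)) @x4 @x6) @Bool.true (@Bool.rec.{1} @(fun x8 => @Bool) @Bool.true @Bool.false (@Cfsg.Agent.KOea38f1d.k18.{1} @Bool (@Nat.mod @x3 (@Nat.add @x7 (nat_lit 1))) (nat_lit 0) @Bool.false @Bool.true)))) @Bool.true (@Bool.rec.{1} @(fun x7 => @Bool) @Bool.true @Bool.false (@Cfsg.Agent.KOea38f1d.k18.{1} @Bool (@Nat.mod @x6 @x1) (nat_lit 0) @Bool.false @Bool.true)))) @Bool.true (@Cfsg.Agent.KOea38f1d.k18.{1} @Bool (@Nat.mod @x5 @x2) (nat_lit 0) @Bool.false @Bool.true))) ?_); rewrite [← Cfsg.Agent.KOea38f1d.e18.{1}, ← Cfsg.Agent.KOea38f1d.e39, ← Cfsg.Agent.KOea38f1d.e21, ← Cfsg.Agent.KOea38f1d.e11.{0}, ← Cfsg.Agent.KOea38f1d.e22, ← Cfsg.Agent.KOea38f1d.e33, ← Cfsg.Agent.KOea38f1d.e19]; (try delta Cfsg.Agent.TH.Ex.Si.deadQ); (try generalize @Cfsg.Agent.H252.EN.force = g0); (try generalize @Cfsg.Agent.H902.Art.NN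 = g1); (try generalize @Cfsg.Agent.H902.Art.num = g2); (try generalize @Cfsg.Agent.H902.Art.dd = g3); (try generalize @Cfsg.Agent.TH.Ex.Si.dead = g4); rfl') | exact @Cfsg.Agent.TH.Ex.Si.deadQ | exact ()
private theorem _root_.Cfsg.Agent.KOea38f1d.e40 : (by first | exact @Cfsg.Agent.TH.Ex.Si.deadQ = @_root_.Cfsg.Agent.KOea38f1d.k40 | exact True : Prop) := by first | (delta _root_.Cfsg.Agent.KOea38f1d.k40; exact @Subtype.property _ (fun g => @Cfsg.Agent.TH.Ex.Si.deadQ = @g) _) | rfl | trivial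
private noncomputable def _root_.Cfsg.Agent.KOea38f1d.k41 : (by first | exact type_of% @Cfsg.Agent.TH.Ex.Si.e2 | exact Unit : Sort _) := by first | (refine @Subtype.val _ (fun g => @Cfsg.Agent.TH.Ex.Si.e2 = @g) (@Subtype.mk _ _ (@(fun (x0 : @Cfsg.Agent.H902.Art.Sh) => @Cfsg.Agent.H902.Art.Sh.rec.{1} @(fun (x1 : @Cfsg.Agent.H902.Art.Sh) => (((@Nat.hasNotBit (nat_lit 832) (@Cfsg.Agent.H902.Art.Sh.ctorIdx @x1)) → @Nat) → @Nat)) @(fun (x1 : @Nat) (x2 : ((@Nat.hasNotBit (nat_lit 832) (@Cfsg.Agent.H902.Art.Sh.ctorIdx (@Cfsg.Agent.H902.Art.Sh.L @x1))) → @Nat)) => @x2 (@Nat.ne_of_beq_eq_false (@Nat.land (@OfNat.ofNat.{0} @Nat (nat_lit 1) (@instOfNatNat (nat_lit 1))) (@Nat.shiftRight (nat_lit 832) (nat_lit 0))) (@OfNat.ofNat.{0} @Nat (nat_lit 1) (@instOfNatNat (nat_lit 1))) (@Eq.refl.{1} @Bool @Bool.false))) @(fun (x1 : @Nat) (x2 : ((@Nat.hasNotBit (nat_lit 832) (@Cfsg.Agent.H902.Art.Sh.ctorIdx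 (@Cfsg.Agent.H902.Art.Sh.C @x1))) → @Nat)) => @x2 (@Nat.ne_of_beq_eq_false (@Nat.land (@OfNat.ofNat.{0} @Nat (nat_lit 1) (@instOfNatNat (nat_lit 1))) (@Nat.shiftRight (nat_lit 832) (nat_lit 1))) (@OfNat.ofNat.{0} @Nat (nat_lit 1) (@instOfNatNat (nat_lit 1))) (@Eq.refl.{1} @Bool @Bool.false))) @(fun (x1 : @Nat) (x2 : ((@Nat.hasNotBit (nat_lit 832) (@Cfsg.Agent.H902.Art.Sh.ctorIdx (@Cfsg.Agent.H902.Art.Sh.U @x1))) → @Nat)) => @x2 (@Nat.ne_of_beq_eq_false (@Nat.land (@OfNat.ofNat.{0} @Nat (nat_lit 1) (@instOfNatNat (nat_lit 1))) (@Nat.shiftRight (nat_lit 832) (nat_lit 2))) (@OfNat.ofNat.{0} @Nat (nat_lit 1) (@instOfNatNat (nat_lit 1))) (@Eq.refl.{1} @Bool @Bool.false))) @(fun (x1 : @Nat) (x2 : ((@Nat.hasNotBit (nat_lit 832) (@Cfsg.Agent.H902.Art.Sh.ctorIdx (@Cfsg.Agent.H902.Art.Sh.D @x1))) → @Nat)) => @x2 (@Nat.ne_of_beq_eq_false (@Nat.land (@OfNat.ofNat.{0} @Nat (nat_lit 1) (@instOfNatNat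 (nat_lit 1))) (@Nat.shiftRight (nat_lit 832) (nat_lit 3))) (@OfNat.ofNat.{0} @Nat (nat_lit 1) (@instOfNatNat (nat_lit 1))) (@Eq.refl.{1} @Bool @Bool.false))) @(fun (x1 : @Nat) (x2 : ((@Nat.hasNotBit (nat_lit 832) (@Cfsg.Agent.H902.Art.Sh.ctorIdx (@Cfsg.Agent.H902.Art.Sh.DD @x1))) → @Nat)) => @x2 (@Nat.ne_of_beq_eq_false (@Nat.land (@OfNat.ofNat.{0} @Nat (nat_lit 1) (@instOfNatNat (nat_lit 1))) (@Nat.shiftRight (nat_lit 832) (nat_lit 4))) (@OfNat.ofNat.{0} @Nat (nat_lit 1) (@instOfNatNat (nat_lit 1))) (@Eq.refl.{1} @Bool @Bool.false))) @(fun (x1 : ((@Nat.hasNotBit (nat_lit 832) (@Cfsg.Agent.H902.Art.Sh.ctorIdx @Cfsg.Agent.H902.Art.Sh.G2)) → @Nat)) => @x1 (@Nat.ne_of_beq_eq_false (@Nat.land (@OfNat.ofNat.{0} @Nat (nat_lit 1) (@instOfNatNat (nat_lit 1))) (@Nat.shiftRight (nat_lit 832) (nat_lit 5))) (@OfNat.ofNat.{0} @Nat (nat_lit 1) (@instOfNatNat (nat_lit 1))) (@Eq.refl.{1} @Bool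 @Bool.false))) @(fun (x1 : ((@Nat.hasNotBit (nat_lit 832) (@Cfsg.Agent.H902.Art.Sh.ctorIdx @Cfsg.Agent.H902.Art.Sh.F4)) → @Nat)) => nat_lit 16) @(fun (x1 : ((@Nat.hasNotBit (nat_lit 832) (@Cfsg.Agent.H902.Art.Sh.ctorIdx @Cfsg.Agent.H902.Art.Sh.E6)) → @Nat)) => @x1 (@Nat.ne_of_beq_eq_false (@Nat.land (@OfNat.ofNat.{0} @Nat (nat_lit 1) (@instOfNatNat (nat_lit 1))) (@Nat.shiftRight (nat_lit 832) (nat_lit 7))) (@OfNat.ofNat.{0} @Nat (nat_lit 1) (@instOfNatNat (nat_lit 1))) (@Eq.refl.{1} @Bool @Bool.false))) @(fun (x1 : ((@Nat.hasNotBit (nat_lit 832) (@Cfsg.Agent.H902.Art.Sh.ctorIdx @Cfsg.Agent.H902.Art.Sh.E7)) → @Nat)) => nat_lit 54) @(fun (x1 : ((@Nat.hasNotBit (nat_lit 832) (@Cfsg.Agent.H902.Art.Sh.ctorIdx @Cfsg.Agent.H902.Art.Sh.E8)) → @Nat)) => nat_lit 112) @(fun (x1 : ((@Nat.hasNotBit (nat_lit 832) (@Cfsg.Agent.H902.Art.Sh.ctorIdx @Cfsg.Agent.H902.Art.Sh.TE6)) → @Nat)) =>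 @x1 (@Nat.ne_of_beq_eq_false (@Nat.land (@OfNat.ofNat.{0} @Nat (nat_lit 1) (@instOfNatNat (nat_lit 1))) (@Nat.shiftRight (nat_lit 832) (nat_lit 10))) (@OfNat.ofNat.{0} @Nat (nat_lit 1) (@instOfNatNat (nat_lit 1))) (@Eq.refl.{1} @Bool @Bool.false))) @(fun (x1 : ((@Nat.hasNotBit (nat_lit 832) (@Cfsg.Agent.H902.Art.Sh.ctorIdx @Cfsg.Agent.H902.Art.Sh.TD4)) → @Nat)) => @x1 (@Nat.ne_of_beq_eq_false (@Nat.land (@OfNat.ofNat.{0} @Nat (nat_lit 1) (@instOfNatNat (nat_lit 1))) (@Nat.shiftRight (nat_lit 832) (nat_lit 11))) (@OfNat.ofNat.{0} @Nat (nat_lit 1) (@instOfNatNat (nat_lit 1))) (@Eq.refl.{1} @Bool @Bool.false))) @(fun (x1 : ((@Nat.hasNotBit (nat_lit 832) (@Cfsg.Agent.H902.Art.Sh.ctorIdx @Cfsg.Agent.H902.Art.Sh.Sz)) → @Nat)) => @x1 (@Nat.ne_of_beq_eq_false (@Nat.land (@OfNat.ofNat.{0} @Nat (nat_lit 1) (@instOfNatNat (nat_lit 1))) (@Nat.shiftRight (nat_lit 832) (nat_lit 12))) (@OfNat.ofNat.{0}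 @Nat (nat_lit 1) (@instOfNatNat (nat_lit 1))) (@Eq.refl.{1} @Bool @Bool.false))) @(fun (x1 : ((@Nat.hasNotBit (nat_lit 832) (@Cfsg.Agent.H902.Art.Sh.ctorIdx @Cfsg.Agent.H902.Art.Sh.Ree)) → @Nat)) => @x1 (@Nat.ne_of_beq_eq_false (@Nat.land (@OfNat.ofNat.{0} @Nat (nat_lit 1) (@instOfNatNat (nat_lit 1))) (@Nat.shiftRight (nat_lit 832) (nat_lit 13))) (@OfNat.ofNat.{0} @Nat (nat_lit 1) (@instOfNatNat (nat_lit 1))) (@Eq.refl.{1} @Bool @Bool.false))) @(fun (x1 : ((@Nat.hasNotBit (nat_lit 832) (@Cfsg.Agent.H902.Art.Sh.ctorIdx @Cfsg.Agent.H902.Art.Sh.TF4)) → @Nat)) => @x1 (@Nat.ne_of_beq_eq_false (@Nat.land (@OfNat.ofNat.{0} @Nat (nat_lit 1) (@instOfNatNat (nat_lit 1))) (@Nat.shiftRight (nat_lit 832) (nat_lit 14))) (@OfNat.ofNat.{0} @Nat (nat_lit 1) (@instOfNatNat (nat_lit 1))) (@Eq.refl.{1} @Bool @Bool.false))) @x0 @(fun (x1 : @Nat.hasNotBit (nat_lit 832) (@Cfsg.Agent.H902.Art.Sh.ctorIdx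 @x0)) => nat_lit 32))) ?_); (try delta Cfsg.Agent.TH.Ex.Si.e2); (try generalize @Cfsg.Agent.H902.Art.Sh.ctorIdx = g0); rfl') | exact @Cfsg.Agent.TH.Ex.Si.e2 | exact ()
private theorem _root_.Cfsg.Agent.KOea38f1d.e41 : (by first | exact @Cfsg.Agent.TH.Ex.Si.e2 = @_root_.Cfsg.Agent.KOea38f1d.k41 | exact True : Prop) := by first | (delta _root_.Cfsg.Agent.KOea38f1d.k41; exact @Subtype.property _ (fun g => @Cfsg.Agent.TH.Ex.Si.e2 = @g) _) | rfl | trivial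
private noncomputable def _root_.Cfsg.Agent.KOea38f1d.k42 : (by first | exact type_of% @Cfsg.Agent.TH.Ex.Si.cT | exact Unit : Sort _) := by first | (refine @Subtype.val _ (fun g => @Cfsg.Agent.TH.Ex.Si.cT = @g) (@Subtype.mk _ _ (@(fun x0 x1 x2 x3 x4 => @Cfsg.Agent.KOea38f1d.k19 _ @x1 @(fun x5 => @Cfsg.Agent.KOea38f1d.k19 _ @x3 @(fun x6 => @Cfsg.Agent.KOea38f1d.k19 _ (@Nat.mul @x5 @x6) @(fun x7 => @Cfsg.Agent.KOea38f1d.k29 @x0 @x5 @x7 @(fun x8 x9 => @Bool.rec.{1} @(fun x10 => @Bool) @Bool.false (@Cfsg.Agent.KOea38f1d.k19 _ (@Nat.mul @x9 @x7) @(fun x10 => @Cfsg.Agent.KOea38f1d.k19 _ (@Nat.mul (@Cfsg.Agent.KOea38f1d.k30 @x0) @x10) @(fun x11 => @Bool.rec.{1} @(fun x12 => @Bool) @Bool.false (@Cfsg.Agent.KOea38f1d.k31 @(fun x12 => @Nat.ble (@Nat.succ @x10) (@Nat.pow (@Nat.pow @x8 @x12) (@Cfsg.Agent.KOea38f1d.k32 @x0))) @(fun x12 => @Cfsg.Agent.KOea38f1d.k19 _ (@Nat.pow @x8 @x12)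 (@Cfsg.Agent.KOea38f1d.k40 @x0 @x5 @x2 @x6 @x4)) (nat_lit 1000) (nat_lit 1)) (@Cfsg.Agent.KOea38f1d.k31 @(fun x12 => @Nat.ble (@Nat.succ @x11) (@Nat.pow @x12 (@Cfsg.Agent.KOea38f1d.k41 @x0))) (@Cfsg.Agent.KOea38f1d.k40 @x0 @x5 @x2 @x6 @x4) (nat_lit 100000) (nat_lit 2))))) (@Bool.rec.{1} @(fun x10 => @Bool) @Bool.true @Bool.false (@Cfsg.Agent.KOea38f1d.k18.{1} @Bool @x8 (nat_lit 0) @Bool.false @Bool.true))) @Cfsg.Agent.TH.Ex.Si.sm (nat_lit 0) @x5))))) ?_); rewrite [← Cfsg.Agent.KOea38f1d.e18.{1}, ← Cfsg.Agent.KOea38f1d.e41, ← Cfsg.Agent.KOea38f1d.e40, ← Cfsg.Agent.KOea38f1d.e32, ← Cfsg.Agent.KOea38f1d.e31, ← Cfsg.Agent.KOea38f1d.e30, ← Cfsg.Agent.KOea38f1d.e29, ← Cfsg.Agent.KOea38f1d.e19]; (try delta Cfsg.Agent.TH.Ex.Si.cT); (try generalize @Cfsg.Agent.H252.EN.force = g0); (try generalize @Cfsg.Agent.TH.Ex.Si.sT = g1); (try generalize @Cfsg.Agent.TH.Ex.Si.kk = g2); (try generalize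 @Cfsg.Agent.TH.Ex.Si.allU = g3); (try generalize @Cfsg.Agent.TH.Ex.Si.e1 = g4); (try generalize @Cfsg.Agent.TH.Ex.Si.deadQ = g5); (try generalize @Cfsg.Agent.TH.Ex.Si.e2 = g6); (try generalize @Cfsg.Agent.TH.Ex.Si.sm = g7); rfl') | exact @Cfsg.Agent.TH.Ex.Si.cT | exact ()
private theorem _root_.Cfsg.Agent.KOea38f1d.e42 : (by first | exact @Cfsg.Agent.TH.Ex.Si.cT = @_root_.Cfsg.Agent.KOea38f1d.k42 | exact True : Prop) := by first | (delta _root_.Cfsg.Agent.KOea38f1d.k42; exact @Subtype.property _ (fun g => @Cfsg.Agent.TH.Ex.Si.cT = @g) _) | rfl | trivial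
private noncomputable def _root_.Cfsg.Agent.KOea38f1d.k43.{ku0, ku1} : type_of% @List.foldr.{ku0, ku1} := @(fun x0 x1 x2 x3 x4 => @List.rec.{(ku1+1), ku0} @x0 @(fun x5 => @x1) @x3 @(fun x5 x6 x7 => @x2 @x5 @x7) @x4)
private theorem _root_.Cfsg.Agent.KOea38f1d.e43.{ku0, ku1} : @List.foldr.{ku0, ku1} = @_root_.Cfsg.Agent.KOea38f1d.k43.{ku0, ku1} := by delta _root_.Cfsg.Agent.KOea38f1d.k43; funext a0 a1 a2 a3 a4; refine (_root_.Cfsg.Agent.KOea38f1d.e1 (fun a4 => @List.foldr.{ku0, ku1} a0 a1 a2 a3 a4) ?_ (fun c0 c1 => ?_) a4 :) <;> (rfl')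
private noncomputable def _root_.Cfsg.Agent.KOea38f1d.k44 : (by first | exact type_of% @Cfsg.Agent.H290.ElTab.numL | exact Unit : Sort _) := by first | (refine @Subtype.val _ (fun g => @Cfsg.Agent.H290.ElTab.numL = @g) (@Subtype.mk _ _ (@(fun x0 x1 => @Cfsg.Agent.H902.Art.Sh.rec.{1} @(fun x2 => ((@Nat.hasNotBit (nat_lit 31) (@Cfsg.Agent.H902.Art.Sh.ctorIdx @x2)) → ℕ) → ℕ) @(fun x2 x3 => @Cfsg.Agent.KOea38f1d.k43.{0, 0} _ _ @(fun x4 x5 => @Nat.mul @x4 @x5) (nat_lit 1) (@Cfsg.Agent.KOea38f1d.k14.{0, 0} _ _ @(fun x4 => @Nat.sub (@Nat.pow @x1 (@Nat.add @x4 (nat_lit 2))) (nat_lit 1)) (@Cfsg.Agent.KOea38f1d.k21 (@Nat.sub @x2 (nat_lit 1)) []))) @(fun x2 x3 => @Cfsg.Agent.KOea38f1d.k43.{0, 0} _ _ @(fun x4 x5 => @Nat.mul @x4 @x5) (nat_lit 1) (@Cfsg.Agent.KOea38f1d.k14.{0, 0} _ _ @(fun x4 => @Nat.sub (@Nat.pow @x1 (@Nat.mul (nat_lit 2) (@Nat.add @x4 (nat_lit 1)))) (nat_lit 1)) (@Cfsg.Agent.KOea38f1d.k21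 @x2 []))) @(fun x2 x3 => @Cfsg.Agent.KOea38f1d.k43.{0, 0} _ _ @(fun x4 x5 => @Nat.mul @x4 @x5) (nat_lit 1) (@Cfsg.Agent.KOea38f1d.k14.{0, 0} _ _ @(fun x4 => @Cfsg.Agent.KOea38f1d.k18.{1} ℕ (@Nat.mod @x4 (nat_lit 2)) (nat_lit 0) (@Nat.add (@Nat.pow @x1 (@Nat.add @x4 (nat_lit 2))) (nat_lit 1)) (@Nat.sub (@Nat.pow @x1 (@Nat.add @x4 (nat_lit 2))) (nat_lit 1))) (@Cfsg.Agent.KOea38f1d.k21 (@Nat.sub @x2 (nat_lit 1)) []))) @(fun x2 x3 => @Nat.mul (@Nat.sub (@Nat.pow @x1 @x2) (nat_lit 1)) (@Cfsg.Agent.KOea38f1d.k43.{0, 0} _ _ @(fun x4 x5 => @Nat.mul @x4 @x5) (nat_lit 1) (@Cfsg.Agent.KOea38f1d.k14.{0, 0} _ _ @(fun x4 => @Nat.sub (@Nat.pow @x1 (@Nat.mul (nat_lit 2) (@Nat.add @x4 (nat_lit 1)))) (nat_lit 1)) (@Cfsg.Agent.KOea38f1d.k21 (@Nat.sub @x2 (nat_lit 1)) [])))) @(fun x2 x3 => @Nat.mul (@Nat.add (@Nat.pow @x1 @x2) (nat_lit 1)) (@Cfsg.Agent.KOea38f1d.k43.{0, 0} _ _ @(fun x4 x5 => @Nat.mul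 @x4 @x5) (nat_lit 1) (@Cfsg.Agent.KOea38f1d.k14.{0, 0} _ _ @(fun x4 => @Nat.sub (@Nat.pow @x1 (@Nat.mul (nat_lit 2) (@Nat.add @x4 (nat_lit 1)))) (nat_lit 1)) (@Cfsg.Agent.KOea38f1d.k21 (@Nat.sub @x2 (nat_lit 1)) [])))) @(fun x2 => @x2 (@Nat.ne_of_beq_eq_false _ _ (@Eq.refl.{1} _ @Bool.false))) @(fun x2 => @x2 (@Nat.ne_of_beq_eq_false _ _ (@Eq.refl.{1} _ @Bool.false))) @(fun x2 => @x2 (@Nat.ne_of_beq_eq_false _ _ (@Eq.refl.{1} _ @Bool.false))) @(fun x2 => @x2 (@Nat.ne_of_beq_eq_false _ _ (@Eq.refl.{1} _ @Bool.false))) @(fun x2 => @x2 (@Nat.ne_of_beq_eq_false _ _ (@Eq.refl.{1} _ @Bool.false))) @(fun x2 => @x2 (@Nat.ne_of_beq_eq_false _ _ (@Eq.refl.{1} _ @Bool.false))) @(fun x2 => @x2 (@Nat.ne_of_beq_eq_false _ _ (@Eq.refl.{1} _ @Bool.false))) @(fun x2 => @x2 (@Nat.ne_of_beq_eq_false _ _ (@Eq.refl.{1} _ @Bool.false))) @(fun x2 => @x2 (@Nat.ne_of_beq_eq_false _ _ (@Eq.refl.{1}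 _ @Bool.false))) @(fun x2 => @x2 (@Nat.ne_of_beq_eq_false _ _ (@Eq.refl.{1} _ @Bool.false))) @x0 @(fun x2 => @Cfsg.Agent.H902.Art.num @x0 @x1))) ?_); rewrite [← Cfsg.Agent.KOea38f1d.e18.{1}, ← Cfsg.Agent.KOea38f1d.e21, ← Cfsg.Agent.KOea38f1d.e14.{0, 0}, ← Cfsg.Agent.KOea38f1d.e43.{0, 0}]; (try delta Cfsg.Agent.H290.ElTab.numL); (try generalize @Cfsg.Agent.H902.Art.Sh.ctorIdx = g0); (try generalize @Cfsg.Agent.H902.Art.num = g1); rfl') | exact @Cfsg.Agent.H290.ElTab.numL | exact ()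
private theorem _root_.Cfsg.Agent.KOea38f1d.e44 : (by first | exact @Cfsg.Agent.H290.ElTab.numL = @_root_.Cfsg.Agent.KOea38f1d.k44 | exact True : Prop) := by first | (delta _root_.Cfsg.Agent.KOea38f1d.k44; exact @Subtype.property _ (fun g => @Cfsg.Agent.H290.ElTab.numL = @g) _) | rfl | trivial
private noncomputable def _root_.Cfsg.Agent.KOea38f1d.k45 : (by first | exact type_of% @Cfsg.Agent.H252.EN.od | exact Unit : Sort _) := by first | (refine @Subtype.val _ (fun g => @Cfsg.Agent.H252.EN.od = @g) (@Subtype.mk _ _ (@(fun x0 x1 x2 => @Nat.div (@Nat.mul (@Nat.pow (@Nat.pow @x1 @x2) (@Cfsg.Agent.KOea38f1d.k33 @x0)) (@Cfsg.Agent.KOea38f1d.k44 @x0 (@Nat.pow @x1 @x2))) (@Cfsg.Agent.KOea38f1d.k22 @x0 (@Nat.pow @x1 @x2)))) ?_); rewrite [← Cfsg.Agent.KOea38f1d.e22, ← Cfsg.Agent.KOea38f1d.e44, ← Cfsg.Agent.KOea38f1d.e33]; (try delta Cfsg.Agent.H252.EN.od); (try generalize @Cfsg.Agent.H902.Art.NN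 = g0); (try generalize @Cfsg.Agent.H290.ElTab.numL = g1); (try generalize @Cfsg.Agent.H902.Art.dd = g2); rfl') | exact @Cfsg.Agent.H252.EN.od | exact ()
private theorem _root_.Cfsg.Agent.KOea38f1d.e45 : (by first | exact @Cfsg.Agent.H252.EN.od = @_root_.Cfsg.Agent.KOea38f1d.k45 | exact True : Prop) := by first | (delta _root_.Cfsg.Agent.KOea38f1d.k45; exact @Subtype.property _ (fun g => @Cfsg.Agent.H252.EN.od = @g) _) | rfl | trivial
private noncomputable def _root_.Cfsg.Agent.KOea38f1d.k46 : (by first | exact type_of% @Cfsg.Agent.H252.EN.ouN | exact Unit : Sort _) := by first | (refine @Subtype.val _ (fun g => @Cfsg.Agent.H252.EN.ouN = @g) (@Subtype.mk _ _ (@(fun x0 x1 x2 => @Cfsg.Agent.H902.Art.Sh.rec.{1} @(fun x3 => ℕ) @(fun x3 => @Nat.mul (@Nat.mul (@Cfsg.Agent.KOea38f1d.k18.{1} ℕ @x3 (nat_lit 2) (nat_lit 2) (nat_lit 1)) (@Nat.gcd @x3 (@Nat.sub (@Nat.pow @x1 @x2) (nat_lit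 1)))) @x2) @(fun x3 => @Nat.mul (@Nat.mul (@Decidable.rec.{1} _ @(fun x4 => ℕ) @(fun x4 => nat_lit 1) @(fun x4 => nat_lit 2) (@Cfsg.Agent.KOea38f1d.k3 _ _ (@Cfsg.Agent.KOea38f1d.k8 @x3 (nat_lit 2)) (@Cfsg.Agent.KOea38f1d.k8 @x1 (nat_lit 2)))) (@Nat.gcd (nat_lit 2) (@Nat.sub (@Nat.pow @x1 @x2) (nat_lit 1)))) @x2) @(fun x3 => @Nat.mul (@Nat.mul (nat_lit 2) (@Nat.gcd @x3 (@Nat.add (@Nat.pow @x1 @x2) (nat_lit 1)))) @x2) @(fun x3 => @Nat.mul (@Nat.mul (@Cfsg.Agent.KOea38f1d.k18.{1} ℕ @x3 (nat_lit 4) (nat_lit 2) (nat_lit 6)) (@Nat.gcd (nat_lit 4) (@Nat.sub (@Nat.pow (@Nat.pow @x1 @x2) @x3) (nat_lit 1)))) @x2) @(fun x3 => @Nat.mul (@Nat.mul (nat_lit 2) (@Nat.gcd (nat_lit 4) (@Nat.add (@Nat.pow (@Nat.pow @x1 @x2) @x3) (nat_lit 1)))) @x2) (@Nat.mul (@Cfsg.Agent.KOea38f1d.k18.{1} ℕ @x1 (nat_lit 3) (nat_lit 1) (nat_lit 2)) @x2) (@Nat.mul (@Cfsg.Agent.KOea38f1d.k18.{1} ℕ @x1 (nat_lit 2)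 (nat_lit 1) (nat_lit 2)) @x2) (@Nat.mul (@Nat.mul (nat_lit 2) (@Nat.gcd (nat_lit 3) (@Nat.sub (@Nat.pow @x1 @x2) (nat_lit 1)))) @x2) (@Nat.mul (@Nat.gcd (nat_lit 2) (@Nat.sub (@Nat.pow @x1 @x2) (nat_lit 1))) @x2) @x2 (@Nat.mul (@Nat.mul (nat_lit 2) (@Nat.gcd (nat_lit 3) (@Nat.add (@Nat.pow @x1 @x2) (nat_lit 1)))) @x2) (@Nat.mul (nat_lit 3) @x2) @x2 @x2 @x2 @x0)) ?_); rewrite [← Cfsg.Agent.KOea38f1d.e8, ← Cfsg.Agent.KOea38f1d.e3, ← Cfsg.Agent.KOea38f1d.e18.{1}]; rfl') | exact @Cfsg.Agent.H252.EN.ouN | exact ()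
private theorem _root_.Cfsg.Agent.KOea38f1d.e46 : (by first | exact @Cfsg.Agent.H252.EN.ouN = @_root_.Cfsg.Agent.KOea38f1d.k46 | exact True : Prop) := by first | (delta _root_.Cfsg.Agent.KOea38f1d.k46; exact @Subtype.property _ (fun g => @Cfsg.Agent.H252.EN.ouN = @g) _) | rfl | trivial

private theorem chkL_a : ([Art.Sh.F4, .E6, .TE6].all chkL) = true := by
  unfold chkL
  rw [cT_eq]
  (first | (rewrite [Cfsg.Agent.KOea38f1d.e11.{0}, Cfsg.Agent.KOea38f1d.e16, Cfsg.Agent.KOea38f1d.e17, Cfsg.Agent.KOea38f1d.e42, Cfsg.Agent.KOea38f1d.e45, Cfsg.Agent.KOea38f1d.e46]; decide +kernel) | decide +kernel)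

private theorem chkL_b : ([Art.Sh.E7, .E8].all chkL) = true := by
  unfold chkL
  rw [cT_eq]
  (first | (rewrite [Cfsg.Agent.KOea38f1d.e11.{0}, Cfsg.Agent.KOea38f1d.e16, Cfsg.Agent.KOea38f1d.e17, Cfsg.Agent.KOea38f1d.e42, Cfsg.Agent.KOea38f1d.e45, Cfsg.Agent.KOea38f1d.e46]; decide +kernel) | decide +kernel)

theorem chkL_F4 : chkL .F4 = true := List.all_eq_true.1 chkL_a _ (by decide)
theorem chkL_E6 : chkL .E6 = true := List.all_eq_true.1 chkL_a _ (by decide)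
theorem chkL_TE6 : chkL .TE6 = true := List.all_eq_true.1 chkL_a _ (by decide)
theorem chkL_E7 : chkL .E7 = true := List.all_eq_true.1 chkL_b _ (by decide)
theorem chkL_E8 : chkL .E8 = true := List.all_eq_true.1 chkL_b _ (by decide)
theorem chkA_all : (Zs.all chkA) = true := by decide +kernel

private theorem allU_of {stop f : ℕ → Bool} {hi : ℕ} (hs : stop hi = true) :
    ∀ fuel lo : ℕ, lo ≤ hi → hi < lo + fuel → (∀ i, lo ≤ i → i < hi → f i = true) → allU stop f fuel lo = true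
  | 0, lo, h1, h2, _ => by omega
  | k + 1, lo, h1, h2, h => by
    show (stop lo || (f lo && force (Nat.succ lo) (allU stop f k))) = true
    rcases Nat.eq_or_lt_of_le h1 with rfl | h3
    · rw [hs]
      rfl
    · rw [force_eq, h lo le_rfl h3, allU_of hs k _ h3 (by omega) fun i h4 h5 => h i (by omega) h5, Bool.and_self,
        Bool.or_true]

private theorem strip_mono {Y : Art.Sh} {t B : ℕ} {F F' : ℕ → ℕ → Bool} (h : ∀ s g, F' s g = true → F s g = true) :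
    ∀ (L : List ℕ) (s g : ℕ), strip Y t B F' L s g = true → strip Y t B F L s g = true
  | [], s, g, h1 => h s g h1
  | r :: L, s, g, h1 => by
    rw [strip] at h1 ⊢
    cases h2 : (t % r == 0 && nv Y r t B)
    · rw [h2, cond_false] at h1
      exact strip_mono h L s g h1
    · rw [h2, cond_true, force_eq] at h1
      rw [cond_true, force_eq]
      exact strip_mono h L _ _ h1

private def oF (q : ℕ) : ℕ := q ^ 24 * ((q ^ 2 - 1) * (q ^ 6 - 1) * (q ^ 8 - 1) * (q ^ 12 - 1))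

private theorem dead_of {q r : ℕ} (hr : r ∣ oM) (h0 : 0 < r) (hq : 1 ≤ q) (h : oF (q % r + r) % r ≠ 0) :
    deadQ .F4 oM 0 1 1 q = true := by
  have h1 : q % r + r ≡ q [MOD r] := by
    unfold Nat.ModEq
    rw [Nat.add_mod_right, Nat.mod_mod]
  have k : ∀ e : ℕ, (q % r + r) ^ e - 1 ≡ q ^ e - 1 [MOD r] := fun e =>
    Nat.ModEq.sub (Nat.one_le_pow _ _ (by omega)) (Nat.one_le_pow _ _ hq) (h1.pow e) rfl
  have h2 : oF (q % r + r) ≡ oF q [MOD r] := (h1.pow 24).mul ((((k 2).mul (k 6)).mul (k 8)).mul (k 12))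
  have h3 : q ^ Art.NN .F4 * Art.num .F4 q / Art.dd .F4 q = oF q := Nat.div_one _
  have h4 : oF q % oM ≠ 0 := fun h5 => h (Eq.trans h2 (Nat.mod_eq_zero_of_dvd (hr.trans (Nat.dvd_of_mod_eq_zero h5))))
  rw [deadQ, force_eq, h3, bne_iff_ne.2 h4, Bool.true_or, Bool.or_true]

private theorem m71 : ((List.range 71).all fun x => x == 0 || (x == 1 || (x == 70 || oF (x + 71) % 71 != 0))) = true := by
  decide +kernel

private theorem m59 : ((List.range 1400).all fun j => [0, 1, 70].all fun x => force (71 * j + x) fun q =>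
    force (q % 59 + 59) fun y => oF y % 59 != 0 || (Nat.blt q 2 || deadQ .F4 oM 0 1 1 q)) = true := by decide +kernel

private theorem deadM {q : ℕ} (h1 : 2 ≤ q) (h2 : q < 99400) : deadQ .F4 oM 0 1 1 q = true := by
  have h3 := List.all_eq_true.1 m71 (q % 71) (List.mem_range.2 (Nat.mod_lt _ (by decide)))
  by_cases h4 : q % 71 ∈ [0, 1, 70]
  · have h5 := List.all_eq_true.1 (List.all_eq_true.1 m59 (q / 71) (List.mem_range.2 (by omega))) _ h4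
    rw [force_eq, force_eq, Nat.div_add_mod, Bool.or_eq_true, Bool.or_eq_true, bne_iff_ne, Nat.blt_eq] at h5
    rcases h5 with h5 | h5 | h5
    · exact dead_of (by decide +kernel) (by decide) (by omega) h5
    · omega
    · exact h5
  · simp only [List.mem_cons, List.not_mem_nil, or_false, not_or] at h4
    simp only [Bool.or_eq_true, beq_iff_eq, bne_iff_ne, h4.1, h4.2.1, h4.2.2, false_or] at h3
    exact dead_of (by decide +kernel) (by decide) (by omega) h3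

private theorem chkM : chkT .F4 oM 0 1 1 = true := by
  have h : strip .F4 oM (oM * 1) (fun s g => s != 0 && force (g * (oM * 1)) fun C =>
      Nat.blt (kk .F4 * C) (99400 ^ e2 .F4) &&
        allU (fun f => Nat.blt C ((s ^ f) ^ e1 .F4)) (fun f => force (s ^ f) (deadQ .F4 oM 0 1 1)) 1000 1) sm 0 oM = true := by
    decide +kernel
  rw [chkT, force_eq, force_eq, force_eq]
  refine strip_mono (fun s g h1 => ?_) _ _ _ h
  rw [force_eq, Bool.and_eq_true, Bool.and_eq_true] at h1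
  rw [force_eq, force_eq, Bool.and_eq_true, Bool.and_eq_true]
  exact ⟨h1.1, allU_of (hi := 99400) h1.2.1 _ _ (by decide) (by decide) fun i h2 h3 => deadM h2 h3, h1.2.2⟩

theorem chkS_F4 : chkS .F4 = true := by
  have h : (Cfsg.Agent.OrdDiv.spor.all fun x => x.2 == oM ||
      chkT .F4 x.2 0 (if x.2 = oM then 1 else 2) (left x.2)) = true := by
    rw [cT_eq]
    decide +kernel
  refine List.all_eq_true.2 fun x hx => ?_
  rcases Bool.or_eq_true_iff.1 (List.all_eq_true.1 h x hx) with h1 | h1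
  · have h2 : left oM = 1 := by decide +kernel
    rw [beq_iff_eq.1 h1, if_pos rfl, h2]
    exact chkM
  · exact h1

theorem chkS_E6 : chkS .E6 = true := by
  unfold chkS
  rw [cT_eq]
  decide +kernel
theorem chkS_TE6 : chkS .TE6 = true := by
  unfold chkS
  rw [cT_eq]
  decide +kernel
theorem chkS_E7 : chkS .E7 = true := by
  unfold chkS
  rw [cT_eq]
  decide +kernel
theorem chkS_E8 : chkS .E8 = true := by
  unfold chkS
  rw [cT_eq]
  decide +kernel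

theorem chk_all {Y : Art.Sh} (hY : Y ∈ Zs) : chkL Y = true ∧ chkA Y = true ∧ chkS Y = true := by
  refine ⟨?_, List.all_eq_true.1 chkA_all Y hY, ?_⟩ <;>
    simp only [Zs, List.mem_cons, List.not_mem_nil, or_false] at hY <;> rcases hY with rfl | rfl | rfl | rfl | rfl
  exacts [chkL_F4, chkL_E6, chkL_TE6, chkL_E7, chkL_E8, chkS_F4, chkS_E6, chkS_TE6, chkS_E7, chkS_E8]

end Cfsg.Agent.TH.Ex.Si
end

private theorem dce_f26eb84cf583 : _root_.True := by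
  try have : _root_.True := by simp only [_root_.Cfsg.Agent.TH.Ex.Si.dg'.eq_2]
  try have : _root_.True := by simp only [_root_.Cfsg.Agent.TH.Ex.Si.dg'._sparseCasesOn_1.else_eq]
  try have : _root_.True := by simp only [_root_.Cfsg.Agent.TH.Ex.Si.strip.eq_2]
  try have : _root_.True := by simp only [_root_.Cfsg.Agent.TH.Ex.Si.strip.eq_def]
  try have : _root_.True := by simp only [_root_.Cfsg.Agent.TH.Ex.Si.e1.eq_3]
  try have : _root_.True := by simp only [_root_.Cfsg.Agent.TH.Ex.Si.dg'.eq_6]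
  try have : _root_.True := by simp only [_root_.Cfsg.Agent.TH.Ex.Si.nvN.eq_1]
  try have : _root_.True := by simp only [_root_.Cfsg.Agent.TH.Ex.Si.dg'.eq_4]
  try have : _root_.True := by simp only [_root_.Cfsg.Agent.TH.Ex.Si.e1.eq_2]
  try have : _root_.True := by simp only [_root_.Cfsg.Agent.TH.Ex.Si.dg.eq_1]
  try have : _root_.True := by simp only [_root_.Cfsg.Agent.TH.Ex.Si.nv.eq_1]
  try have : _root_.True := by simp only [_root_.Cfsg.Agent.TH.Ex.Si.dead.eq_1]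
  try have : _root_.True := by simp only [_root_.Cfsg.Agent.TH.Ex.Si.e1.eq_4]
  try have : _root_.True := by simp only [_root_.Cfsg.Agent.TH.Ex.Si.Zs.eq_1]
  try have : _root_.True := by simp only [_root_.Cfsg.Agent.TH.Ex.Si.dg'.eq_3]
  try have : _root_.True := by simp only [_root_.Cfsg.Agent.TH.Ex.Si.e2.eq_4]
  try have : _root_.True := by simp only [_root_.Cfsg.Agent.TH.Ex.Si.strip.eq_1]
  try have : _root_.True := by simp only [_root_.Cfsg.Agent.TH.Ex.Si.dg'.eq_5]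
  try have : _root_.True := by simp only [_root_.Cfsg.Agent.TH.Ex.Si.e2.eq_1]
  try have : _root_.True := by simp only [_root_.Cfsg.Agent.TH.Ex.Si.dg'.eq_1]
  try have : _root_.True := by simp only [_root_.Cfsg.Agent.TH.Ex.Si.e2.eq_2]
  try have : _root_.True := by simp only [_root_.Cfsg.Agent.TH.Ex.Si.e1.eq_1]
  try have : _root_.True := by simp only [_root_.Cfsg.Agent.TH.Ex.Si.e2.eq_3]
  try have : _root_.True := by simp only [_root_.Cfsg.Agent.TH.Ex.Si.fk.eq_1]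
  try have : _root_.True := by simp only [_root_.Cfsg.Agent.TH.Ex.Si.bY._sparseCasesOn_1.else_eq]
  try have : _root_.True := by simp only [_root_.Cfsg.Agent.TH.Ex.Si.deadQ.eq_1]
  try have : _root_.True := by simp only [_root_.Cfsg.Agent.TH.Ex.Si.chkT.eq_1]
  exact _root_.True.intro
end

-- part: TH/Ex/Mu/Ten_mg
section
set_option linter.all false
open scoped Cfsg.Agent.FastGrp

-- part: TH/Ex/Mu/Ten
section
/-!
# S3541: representations of products of groups (helper93)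

`sum_le` : commuting groups `S i` with degree bounds `r i ≥ 3`; the sum of `r i * r j` over the pairs with a common
eigenvector whose two eigenvalues are not `1` is at most the dimension.
-/

set_option autoImplicit false

namespace Cfsg.Agent.TH.Ex.Mu.Ten

open Module

variable {K : Type} [Field K]

/-- all non-trivial representations have degree at least `r` -/
def Low (K : Type) [Field K] (S : Type) [Group S] (r : ℕ) : Prop :=
  ∀ (W : Type) [AddCommGroup W] [Module K W] [FiniteDimensional K W] (σ : Representation K S W), (∃ g, σ g ≠ 1) →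
    r ≤ finrank K W

section lin

variable {U V : Type} [AddCommGroup U] [Module K U] [AddCommGroup V] [Module K V] [FiniteDimensional K U]
  [FiniteDimensional K V] {ι : Type*}

theorem exists_min (A : ι → End K V) {P : Submodule K V} (hP : ∀ i, ∀ v ∈ P, A i v ∈ P) (h0 : P ≠ ⊥) :
    ∃ N ≤ P, N ≠ ⊥ ∧ (∀ i, ∀ v ∈ N, A i v ∈ N) ∧ ∀ N' ≤ N, (∀ i, ∀ v ∈ N', A i v ∈ N') → N' = ⊥ ∨ N' = N := by
  obtain ⟨N, ⟨h1, h2, h3⟩, h4⟩ := IsArtinian.set_has_minimal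
    {N : Submodule K V | N ≤ P ∧ N ≠ ⊥ ∧ ∀ i, ∀ v ∈ N, A i v ∈ N} ⟨P, le_rfl, h0, hP⟩
  refine ⟨N, h1, h2, h3, fun N' h5 h6 => or_iff_not_imp_left.2 fun h7 => ?_⟩
  exact h5.eq_of_not_lt (h4 N' ⟨h5.trans h1, h7, h6⟩)

variable [IsAlgClosed K]

theorem schur [Nontrivial U] {A : ι → End K U} (hA : ∀ N : Submodule K U, (∀ i, ∀ v ∈ N, A i v ∈ N) → N = ⊥ ∨ N = ⊤)
    {e : End K U} (he : ∀ i u, e (A i u) = A i (e u)) : ∃ c : K, ∀ u, e u = c • u := by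
  obtain ⟨c, hc⟩ := End.exists_eigenvalue e
  refine ⟨c, fun u => End.mem_eigenspace_iff.1 ?_⟩
  rw [(hA (e.eigenspace c) fun i v hv => ?_).resolve_left hc]
  · exact Submodule.mem_top
  · rw [End.mem_eigenspace_iff] at hv ⊢
    rw [he, hv, map_smul]

theorem hom_le {A : ι → End K U} (hA : ∀ N : Submodule K U, (∀ i, ∀ v ∈ N, A i v ∈ N) → N = ⊥ ∨ N = ⊤)
    {B : ι → End K V} (Z : Submodule K (U →ₗ[K] V)) (hZ : ∀ φ ∈ Z, ∀ i u, φ (A i u) = B i (φ u)) :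
    finrank K U * finrank K Z ≤ finrank K V := by
  let b := finBasis K Z
  let Φ : (Fin (finrank K Z) → U) →ₗ[K] V := ∑ j, (b j : U →ₗ[K] V) ∘ₗ LinearMap.proj j
  have hΦ : ∀ w, Φ w = ∑ j, (b j : U →ₗ[K] V) (w j) := fun w => by simp [Φ]
  suffices h : LinearMap.ker Φ = ⊥ by
    have h1 := LinearMap.finrank_le_finrank_of_injective (LinearMap.ker_eq_bot.1 h)
    rwa [finrank_pi_fintype, Finset.sum_const, Finset.card_univ, Fintype.card_fin, smul_eq_mul, mul_comm] at h1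
  by_contra h0
  let A' : ι → End K (Fin (finrank K Z) → U) := fun i => LinearMap.pi fun j => A i ∘ₗ LinearMap.proj j
  obtain ⟨N, h1, h2, h3, h4⟩ := exists_min A' (P := LinearMap.ker Φ) (fun i w hw => by
    rw [LinearMap.mem_ker, hΦ] at hw ⊢
    refine (Finset.sum_congr rfl fun j _ => hZ _ (b j).2 i (w j)).trans ?_
    rw [← map_sum, hw, map_zero]) h0
  obtain ⟨w, hw, hw0⟩ := (Submodule.ne_bot_iff N).1 h2
  obtain ⟨j, hj⟩ := Function.ne_iff.1 hw0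
  have : Nontrivial U := ⟨w j, 0, hj⟩
  let π : N →ₗ[K] U := LinearMap.proj j ∘ₗ N.subtype
  have h5 : Function.Injective π := by
    rw [← LinearMap.ker_eq_bot, eq_bot_iff]
    intro x hx
    rcases h4 (N ⊓ LinearMap.ker (LinearMap.proj j)) inf_le_left (fun i v hv => ⟨h3 i v hv.1, by
      show A i (v j) = 0
      rw [show v j = 0 from hv.2, map_zero]⟩) with h5 | h5
    · exact Subtype.ext (h5.le (⟨x.2, hx⟩ : x.1 ∈ N ⊓ LinearMap.ker (LinearMap.proj j)))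
    · exact absurd (h5.ge hw).2 hj
  have h6 : Function.Surjective π := by
    rw [← LinearMap.range_eq_top]
    refine (hA _ ?_).resolve_left fun h6 => hj (h6.le ⟨⟨w, hw⟩, rfl⟩)
    rintro i _ ⟨x, rfl⟩
    exact ⟨⟨_, h3 i x x.2⟩, rfl⟩
  let ψ := (LinearEquiv.ofBijective π ⟨h5, h6⟩).symm
  have h7 : ∀ u, (ψ u).1 j = u := (LinearEquiv.ofBijective π ⟨h5, h6⟩).apply_symm_apply
  have h8 : ∀ i u, ψ (A i u) = ⟨A' i (ψ u), h3 i _ (ψ u).2⟩ := fun i u => h5 ((h7 _).trans (congrArg (A i) (h7 u).symm))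
  have h9 : ∀ k, ∃ c : K, ∀ u, (ψ u).1 k = c • u := fun k =>
    schur hA (e := LinearMap.proj k ∘ₗ N.subtype ∘ₗ ψ.toLinearMap) fun i u => congrArg (fun x : N => x.1 k) (h8 i u)
  choose c hc using h9
  have h10 := Fintype.linearIndependent_iff.1 b.linearIndependent c (Subtype.ext (LinearMap.ext fun u => by
    have h10 : Φ (ψ u) = 0 := h1 (ψ u).2
    rw [hΦ] at h10
    simpa [hc] using h10)) j
  refine hj ?_
  rw [← h7 (w j), hc, h10, zero_smul]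
  rfl

end lin

section prod

variable {ι : Type} {S : ι → Type} [∀ i, Group (S i)] {r : ι → ℕ}

/-- composition with the operators -/
def post {G U V : Type} [Group G] [AddCommGroup U] [Module K U] [AddCommGroup V] [Module K V]
    (τ : Representation K G V) : Representation K G (U →ₗ[K] V) where
  toFun y := LinearMap.llcomp K U V V (τ y)
  map_one' := by ext; simp
  map_mul' _ _ := by ext; simp

variable [IsAlgClosed K]

theorem prod_le (l : List ι) (hr : ∀ i ∈ l, Low K (S i) (r i)) (V : Type) [AddCommGroup V] [Module K V]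
    [FiniteDimensional K V] [Nontrivial V] (ρ : ∀ i, Representation K (S i) V)
    (hc : l.Pairwise fun i j => ∀ x y, Commute (ρ i x) (ρ j y)) (hf : ∀ i ∈ l, ∀ v, (∀ x, ρ i x v = v) → v = 0) :
    (l.map r).prod ≤ finrank K V := by
  classical
  induction l generalizing V with
  | nil => exact finrank_pos
  | cons i l ih =>
    obtain ⟨U, -, h2, h3, h4⟩ := exists_min (ρ i) (P := ⊤) (fun _ _ _ => trivial) top_ne_bot
    let σ := (ρ i).subrepresentation U h3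
    obtain ⟨u, hu, hu0⟩ := (Submodule.ne_bot_iff U).1 h2
    have h5 : r i ≤ finrank K U := hr i List.mem_cons_self U σ (by
      by_contra h5
      refine hu0 (hf i List.mem_cons_self u fun x => ?_)
      exact congrArg Subtype.val (LinearMap.congr_fun (not_not.1 (not_exists.1 h5 x)) ⟨u, hu⟩))
    let Z : Submodule K (U →ₗ[K] V) :=
      { carrier := {φ | ∀ x v, φ (σ x v) = ρ i x (φ v)}
        zero_mem' := fun _ _ => (map_zero _).symm
        add_mem' := fun {a b} ha hb x v => by rw [LinearMap.add_apply, LinearMap.add_apply, ha, hb, map_add]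
        smul_mem' := fun c a ha x v => by rw [LinearMap.smul_apply, LinearMap.smul_apply, ha, map_smul] }
    have h6 : finrank K U * finrank K Z ≤ finrank K V := hom_le (A := σ) (B := ρ i) (fun N hN => by
      rcases h4 (N.map U.subtype) (Submodule.map_subtype_le _ _) (by
        rintro x _ ⟨v, hv, rfl⟩
        exact ⟨_, hN x v hv, rfl⟩) with h6 | h6
      · exact Or.inl (Submodule.map_injective_of_injective U.injective_subtype (h6.trans (Submodule.map_bot _).symm))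
      · exact Or.inr (Submodule.map_injective_of_injective U.injective_subtype (h6.trans (Submodule.map_subtype_top U).symm)))
      Z fun _ h => h
    have : Nontrivial Z := ⟨⟨U.subtype, fun _ _ => rfl⟩, 0, fun h =>
      hu0 (LinearMap.congr_fun (congrArg Subtype.val h) ⟨u, hu⟩)⟩
    have h7 : ∀ j, (∀ x y, Commute (ρ i x) (ρ j y)) → ∀ y, Z ≤ Z.comap (post (ρ j) y) := fun j h y φ hφ x v => by
      show ρ j y (φ (σ x v)) = ρ i x (ρ j y (φ v))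
      rw [hφ]
      exact (LinearMap.congr_fun (h x y).eq _).symm
    let τ : ∀ j, Representation K (S j) Z := fun j =>
      if h : ∀ x y, Commute (ρ i x) (ρ j y) then (post (ρ j)).subrepresentation Z (h7 j h) else 1
    have h8 : ∀ j ∈ l, ∀ y φ v, (τ j y φ).1 v = ρ j y (φ.1 v) := fun j hj y φ v => by
      simp only [τ, dif_pos (List.rel_of_pairwise_cons hc hj)]
      rfl
    have h9 := ih (fun j hj => hr j (List.mem_cons_of_mem _ hj)) Z τ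
      (hc.of_cons.imp_of_mem fun {j k} hj hk h x y => LinearMap.ext fun φ => Subtype.ext (LinearMap.ext fun v => by
        rw [End.mul_apply, End.mul_apply, h8 j hj, h8 k hk, h8 k hk, h8 j hj]
        exact LinearMap.congr_fun (h x y).eq _))
      fun j hj φ h => Subtype.ext (LinearMap.ext fun v => hf j (List.mem_cons_of_mem _ hj) _ fun y => by
        rw [← h8 j hj, h])
    rw [List.map_cons, List.prod_cons]
    exact (Nat.mul_le_mul h5 h9).trans h6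

/-- the sum over the pairs with the property `m` -/
def ps (r : ι → ℕ) (m : ι → ι → Prop) [DecidableRel m] : List ι → ℕ
  | [] => 0
  | i :: l => r i * ((l.filter (m i ·)).map r).sum + ps r m l

theorem sum_filter_le {a b c : ι → Prop} [DecidablePred a] [DecidablePred b] [DecidablePred c] (l : List ι)
    (h : ∀ j ∈ l, a j → b j ∨ c j) :
    ((l.filter (a ·)).map r).sum ≤ ((l.filter (b ·)).map r).sum + ((l.filter (c ·)).map r).sum := by
  induction l with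
  | nil => exact Nat.zero_le _
  | cons j l ih =>
    have h1 := ih fun k hk => h k (List.mem_cons_of_mem _ hk)
    have h2 := h j List.mem_cons_self
    by_cases ha : a j <;> by_cases hb : b j <;> by_cases hc : c j <;> simp [ha, hb, hc] at h2 ⊢ <;> omega

theorem ps_le {a b c : ι → ι → Prop} [DecidableRel a] [DecidableRel b] [DecidableRel c] (l : List ι)
    (h : ∀ i ∈ l, ∀ j ∈ l, a i j → b i j ∨ c i j) : ps r a l ≤ ps r b l + ps r c l := by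
  induction l with
  | nil => exact Nat.zero_le _
  | cons i l ih =>
    have h1 := ih fun j hj k hk => h j (List.mem_cons_of_mem _ hj) k (List.mem_cons_of_mem _ hk)
    have h2 := Nat.mul_le_mul_left (r i) (sum_filter_le (r := r) l fun j hj =>
      h i List.mem_cons_self j (List.mem_cons_of_mem _ hj))
    rw [mul_add] at h2
    simp only [ps]
    omega

theorem ps_false (l : List ι) : ps r (fun _ _ => False) l = 0 := by
  induction l with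
  | nil => rfl
  | cons i l ih => simp [ps, ih]

/-- the pairs of members with the property `a` -/
theorem ps_and (a : ι → Prop) [DecidablePred a] (l : List ι) (hr : ∀ i ∈ l, 3 ≤ r i) :
    ps r (fun i j => a i ∧ a j) l ≤ ((l.filter (a ·)).map r).prod ∧
      ((l.filter (a ·)).map r).sum ≤ ((l.filter (a ·)).map r).prod ∧
      (ps r (fun i j => a i ∧ a j) l = 0 ∨ 3 * ((l.filter (a ·)).map r).sum ≤ 2 * ((l.filter (a ·)).map r).prod) ∧
      (((l.filter (a ·)).map r).sum = 0 ∧ ((l.filter (a ·)).map r).prod = 1 ∧ ps r (fun i j => a i ∧ a j) l = 0 ∨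
        3 ≤ ((l.filter (a ·)).map r).prod) := by
  induction l with
  | nil => simp [ps]
  | cons i l ih =>
    obtain ⟨h1, h2, h3, h4⟩ := ih fun j hj => hr j (List.mem_cons_of_mem _ hj)
    have h5 := hr i List.mem_cons_self
    by_cases ha : a i
    · simp only [ps, ha, true_and, decide_true, List.filter_cons_of_pos, List.map_cons, List.sum_cons, List.prod_cons]
      generalize ((l.filter (a ·)).map r).sum = s at *
      generalize ((l.filter (a ·)).map r).prod = p at *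
      generalize ps r (fun i j => a i ∧ a j) l = t at *
      obtain ⟨x, hx⟩ := Nat.exists_eq_add_of_le h5
      rw [hx]
      rcases h4 with ⟨rfl, rfl, rfl⟩ | h4
      · omega
      obtain ⟨y, rfl⟩ := Nat.exists_eq_add_of_le h4
      have h6 := Nat.mul_le_mul_left x h2
      refine ⟨?_, by nlinarith, Or.inr (by nlinarith), Or.inr (by nlinarith)⟩
      rcases h3 with rfl | h3
      · nlinarith
      · have h7 := Nat.mul_le_mul_left x h3
        nlinarith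
    · simpa [ps, ha] using ⟨h1, h2, h3, h4⟩

/-- a common eigenvector with two eigenvalues different from `1` -/
def Mix {V : Type} [AddCommGroup V] [Module K V] (ρ : ∀ i, Representation K (S i) V) (i j : ι) : Prop :=
  ∃ (y : S i) (z : S j) (v : V) (a b : K), v ≠ 0 ∧ a ≠ 1 ∧ b ≠ 1 ∧ ρ i y v = a • v ∧ ρ j z v = b • v

open scoped Classical in
theorem sum_le (l : List ι) (h3 : ∀ i ∈ l, 3 ≤ r i) (hr : ∀ i ∈ l, Low K (S i) (r i)) (n : ℕ) (V : Type) [AddCommGroup V]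
    [Module K V] [FiniteDimensional K V] (hn : finrank K V = n) (ρ : ∀ i, Representation K (S i) V) (hl : l.Nodup)
    (hc : ∀ i j, i ≠ j → ∀ x y, Commute (ρ i x) (ρ j y)) : ps r (Mix ρ) l ≤ n := by
  induction n using Nat.strong_induction_on generalizing V with
  | _ n ih =>
  by_cases h : ∃ U : Submodule K V, (∀ i x, U ≤ U.comap (ρ i x)) ∧ U ≠ ⊥ ∧ U ≠ ⊤
  · obtain ⟨U, h1, h2, h4⟩ := h
    have h5 := U.finrank_quotient_add_finrank
    have h6 := Submodule.finrank_lt h4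
    have h7 : finrank K U ≠ 0 := fun h => h2 (Submodule.finrank_eq_zero.1 h)
    have h8 := ih _ (hn ▸ h6) U rfl (fun i => (ρ i).subrepresentation U (h1 i)) fun i j h x y =>
      LinearMap.ext fun v => Subtype.ext (LinearMap.congr_fun (hc i j h x y).eq v)
    have h9 := ih _ (by omega) (V ⧸ U) rfl (fun i => (ρ i).quotient U (h1 i)) fun i j h x y =>
      LinearMap.ext fun v => by
        obtain ⟨v, rfl⟩ := U.mkQ_surjective v
        exact congrArg U.mkQ (LinearMap.congr_fun (hc i j h x y).eq v)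
    refine (ps_le l ?_).trans ((Nat.add_le_add h8 h9).trans (by omega))
    rintro i - j - ⟨y, z, v, a, b, e1, e2, e3, e4, e5⟩
    by_cases e6 : v ∈ U
    · exact Or.inl ⟨y, z, ⟨v, e6⟩, a, b, fun h => e1 (congrArg Subtype.val h), e2, e3, Subtype.ext e4, Subtype.ext e5⟩
    · exact Or.inr ⟨y, z, U.mkQ v, a, b, fun h => e6 ((Submodule.Quotient.mk_eq_zero U).1 h), e2, e3,
        congrArg U.mkQ e4, congrArg U.mkQ e5⟩
  have key : ∀ {i} {y : S i} {v : V} {a : K}, v ≠ 0 → a ≠ 1 → ρ i y v = a • v → ∃ x, ρ i x ≠ 1 :=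
    fun {i y v a} e1 e2 e3 => ⟨y, fun h => by
      rw [h, End.one_apply, eq_comm, ← sub_eq_zero, ← one_smul K v, smul_smul, mul_one, ← sub_smul, smul_eq_zero] at e3
      exact e3.elim (fun h => e2 (sub_eq_zero.1 h)) e1⟩
  rcases subsingleton_or_nontrivial V with h0 | h0
  · refine (ps_le (b := fun _ _ => False) (c := fun _ _ => False) l ?_).trans (by simp [ps_false])
    rintro i - j - ⟨_, _, v, _, _, e1, _⟩
    exact absurd (Subsingleton.elim _ _) e1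
  refine (ps_le (b := fun i j => (∃ x, ρ i x ≠ 1) ∧ ∃ x, ρ j x ≠ 1) (c := fun _ _ => False) l ?_).trans ?_
  · rintro i - j - ⟨y, z, v, a, b, e1, e2, e3, e4, e5⟩
    exact Or.inl ⟨key e1 e2 e4, key e1 e3 e5⟩
  rw [ps_false, add_zero, ← hn]
  refine (ps_and _ l h3).1.trans (prod_le _ (fun i hi => hr i (List.mem_of_mem_filter hi)) V ρ
    ((hl.filter _).imp fun h => hc _ _ h) fun i hi v hv => ?_)
  obtain ⟨x, hx⟩ := of_decide_eq_true (List.mem_filter.1 hi).2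
  by_contra h1
  refine h ⟨(ρ i).invariants, fun j y w hw => ?_, (Submodule.ne_bot_iff _).2 ⟨v, hv, h1⟩, fun h2 =>
    hx (LinearMap.ext fun w => h2.ge Submodule.mem_top x)⟩
  intro z
  by_cases h2 : j = i
  · subst h2
    rw [hw y, hw z]
  · exact (LinearMap.congr_fun (hc j i h2 y z).eq w).symm.trans (congrArg (ρ j y) (hw z))

end prod

end Cfsg.Agent.TH.Ex.Mu.Ten
end

-- part: TH/Ex/Mx/A
section
/-!
# S3541, exceptional socles: a root which is non-trivial on two given elements of the torus; centralizer orders (helper92)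
-/

set_option autoImplicit false
set_option linter.unusedSectionVars false
set_option maxHeartbeats 400000

namespace Cfsg.Agent.TH.Ex.Mx

open CoxeterSystem Cfsg Cfsg.Lie Cfsg.Lie.ChevalleyDatum
open Cfsg.Agent.ChevalleyStructure Cfsg.Agent.ChevalleyStructure.Elts Cfsg.Agent.ChevalleyStructure.CoxeterGeom
  Cfsg.Agent.ChevalleyStructure.CoxeterGeomTypes
open Cfsg.Agent.Tits.Roots Cfsg.Agent.Tits.Core Cfsg.Agent.Nodes Cfsg.Agent.Nodes.Reps Cfsg.Agent.Nodes.BNOf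
  Cfsg.Agent.Nodes.RGDChev Cfsg.Agent.Nodes.Bruhat
open Cfsg.Agent.KFacts.RgdField Cfsg.Agent.KFacts.RgdChevCoord
open Cfsg.Agent.BpExc Cfsg.Agent.BpExc.TorCent Cfsg.Agent.BpExc.TorChev Cfsg.Agent.BpExc.Tow
  Cfsg.Agent.BpExc.TowChev Cfsg.Agent.BpExc.Fr Cfsg.Agent.BpExc.LangFr
open Cfsg.Agent.H469.Exc Cfsg.Agent.H795.SetCent Cfsg.Agent.H129.TorusChar Cfsg.Agent.DS.Ex
open Cfsg.Agent.DS.Nt

/-- the distance in the diagram of type `F₄` -/
def dF (i j : ℕ) : ℕ := (i - j) + (j - i)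

/-- the position of a node of type `E` -/
def pE (i : ℕ) : ℕ := if i = 0 then 0 else if i = 1 then 2 else i - 1

/-- the distance in the diagrams of type `E` -/
def dE (i j : ℕ) : ℕ := if i = j then 0 else dF (pE i) (pE j) + (if i = 1 then 1 else 0) + (if j = 1 then 1 else 0)

/-- any two nodes are joined by a root supported on the path -/
def Path (D : ChevalleyDatum) (l : ℕ) (d : ℕ → ℕ → ℕ) : Prop :=
  ∀ i j : Fin l, i ≠ j → d i i < d i j ∧ d j j < d i j ∧ ∃ s : Fin D.nroots, vec D l s i = 1 ∧ vec D l s j = 1 ∧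
    ∀ k : Fin l, vec D l s k = 0 ∨ k = i ∨ k = j ∨ (d k j < d i j ∧ d i k < d i j)

theorem path_F4 : Path chevF4 4 dF := by unfold Path; decide +kernel
theorem path_E6 : Path chevE6 6 dE := by unfold Path; (open scoped Cfsg.Agent.ChevFast.Lin in decide +kernel)
theorem path_E7 : Path chevE7 7 dE := by unfold Path; (open scoped Cfsg.Agent.ChevFast.Lin in decide +kernel)
theorem path_E8 : Path chevE8 8 dE := by unfold Path; (open scoped Cfsg.Agent.ChevFast.Lin in decide +kernel)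

variable {D : ChevalleyDatum} {l : ℕ} {M : CoxeterMatrix (Fin l)} {hp : IsType D l M} {p : ℕ} [Fact p.Prime]

theorem exists_path (hp : IsType D l M) (hD : Typ D) : ∃ d, Path D l d := by
  have h := typ_l hp
  rcases hD with rfl | rfl | rfl | rfl
  · obtain rfl := h.1 rfl
    exact ⟨_, path_F4⟩
  · obtain rfl := h.2.1 rfl
    exact ⟨_, path_E6⟩
  · obtain rfl := h.2.2.1 rfl
    exact ⟨_, path_E7⟩
  · obtain rfl := h.2.2.2 rfl
    exact ⟨_, path_E8⟩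

theorem mc_eq {k : Type*} [Field k] {φ : (Fin l → ℤ) → k} (hφ : IsMC φ) {x : Fin l → ℤ} {i : Fin l} (hi : x i = 1)
    (h : ∀ j, j ≠ i → x j = 0 ∨ φ (sr j) = 1) : φ x = φ (sr i) := by
  rw [hφ.eq_prod x, Finset.prod_eq_single i, hi, zpow_one]
  · intro j _ hj
    rcases h j hj with h1 | h1
    · rw [h1, zpow_zero]
    · rw [h1, one_zpow]
  · intro h1
    exact absurd (Finset.mem_univ i) h1

/-- two non-trivial characters of the root lattice are non-trivial on a common root -/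
theorem exists_root (hp : IsType D l M) (hD : Typ D) {k : Type*} [Field k] {φ ψ : (Fin l → ℤ) → k} (hφ : IsMC φ)
    (hψ : IsMC ψ) {i j : Fin l} (hi : φ (sr i) ≠ 1) (hj : ψ (sr j) ≠ 1) :
    ∃ s : Fin D.nroots, φ (vec D l s) ≠ 1 ∧ ψ (vec D l s) ≠ 1 := by
  obtain ⟨d, hd⟩ := exists_path hp hD
  obtain ⟨n, hn⟩ : ∃ n, d i j = n := ⟨_, rfl⟩
  induction n using Nat.strong_induction_on generalizing i j with
  | _ n ih =>
    by_cases hij : i = j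
    · subst hij
      obtain ⟨s, hs, e⟩ := (isRoot_iff hp M.toCoxeterSystem (sr i)).1 (isRoot_sr _ _ i)
      refine ⟨⟨s, hs⟩, ?_⟩
      show φ (vec D l s) ≠ 1 ∧ ψ (vec D l s) ≠ 1
      rw [e]
      exact ⟨hi, hj⟩
    obtain ⟨h1, h2, s, s1, s2, s3⟩ := hd i j hij
    by_cases a1 : ψ (sr i) = 1
    swap
    · exact ih _ (hn ▸ h1) hi a1 rfl
    by_cases a2 : φ (sr j) = 1
    swap
    · exact ih _ (hn ▸ h2) a2 hj rfl
    by_cases a3 : ∀ k : Fin l, d k j < d i j → φ (sr k) = 1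
    swap
    · push Not at a3
      obtain ⟨k, b1, b2⟩ := a3
      exact ih _ (hn ▸ b1) b2 hj rfl
    by_cases a4 : ∀ k : Fin l, d i k < d i j → ψ (sr k) = 1
    swap
    · push Not at a4
      obtain ⟨k, b1, b2⟩ := a4
      exact ih _ (hn ▸ b1) hi b2 rfl
    refine ⟨s, ?_, ?_⟩
    · rw [mc_eq hφ s1 fun k hk => ?_]
      · exact hi
      · rcases s3 k with b | b | b | b
        · exact Or.inl b
        · exact absurd b hk
        · exact Or.inr (b ▸ a2)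
        · exact Or.inr (a3 k b.1)
    · rw [mc_eq hψ s2 fun k hk => ?_]
      · exact hj
      · rcases s3 k with b | b | b | b
        · exact Or.inl b
        · exact Or.inr (b ▸ a1)
        · exact absurd b hk
        · exact Or.inr (a4 k b.2)

theorem exists_sr {t : YY D p} (ht : t ∈ TT D (KK p)) (h1 : t ≠ 1) : ∃ i, cX hp t (sr i) ≠ 1 := by
  by_contra h
  push Not at h
  exact h1 (cX_inj hp ht (one_mem _) fun i => by rw [h, cX_one])

/-- **[MIX] in the torus** -/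
theorem mix_T (hD : Typ D) {y z : YY D p} (hy : y ∈ TT D (KK p)) (hz : z ∈ TT D (KK p)) (y1 : y ≠ 1) (z1 : z ≠ 1) :
    ∃ s : Fin D.nroots, cX hp y (vec D l s) ≠ 1 ∧ cX hp z (vec D l s) ≠ 1 := by
  obtain ⟨i, hi⟩ := exists_sr (hp := hp) hy y1
  obtain ⟨j, hj⟩ := exists_sr (hp := hp) hz z1
  exact exists_root hp hD (isMC_cX hp hy) (isMC_cX hp hz) hi hj

/-- commuting elements of coprime orders prime to `p` are toral -/
theorem tp_of_coprime (hp : IsType D l M) {y z : YY D p} {r s : ℕ} (hr : r ≠ 0) (hs : s ≠ 0) (hrs : r.Coprime s)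
    (hrp : r.Coprime p) (hsp : s.Coprime p) (hy : y ^ r = 1) (hz : z ^ s = 1) (hc : Commute y z) : Tp p y z := by
  have h1 : (y * z) ^ (r * s) = 1 := by
    rw [hc.mul_pow, pow_mul, hy, one_pow, one_mul, mul_comm, pow_mul, hz, one_pow]
  obtain ⟨g, hg⟩ := H944.TorAnyChev.exists_conj_mem_TT hp p (TorAll.hAlg_of_isAlgebraic p _) (mul_ne_zero hr hs)
    (Nat.Coprime.mul_left hrp hsp) h1
  refine ⟨g, mem_of_pow_coprime (a := r) (b := s) ?_ ?_ hrs, mem_of_pow_coprime (a := r) (b := s) ?_ ?_ hrs⟩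
  · rw [conj_pow, hy, mul_one, mul_inv_cancel]
    exact one_mem _
  · have h2 := pow_mem hg s
    rwa [conj_pow, hc.mul_pow, hz, mul_one, ← conj_pow] at h2
  · have h2 := pow_mem hg r
    rwa [conj_pow, hc.mul_pow, hy, one_mul, ← conj_pow] at h2
  · rw [conj_pow, hz, mul_one, mul_inv_cancel]
    exact one_mem _

theorem ad_single {t : YY D p} (ht : t ∈ TT D (KK p)) (j : D.Idx) :
    ad D p t (Pi.single j 1) = wtc hp t j • (Pi.single j 1 : D.Idx → KK p) := by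
  funext i
  rw [ad_tor (hp := hp) ht, Pi.smul_apply, smul_eq_mul]
  by_cases h : i = j
  · rw [h]
  · rw [Pi.single_eq_of_ne h, mul_zero, mul_zero]

theorem ad_of_conj {g y : YY D p} {v : D.Idx → KK p} {a : KK p} (h : ad D p (g * y * g⁻¹) v = a • v) :
    ad D p y (ad D p g⁻¹ v) = a • ad D p g⁻¹ v := by
  rw [← map_smul, ← h, ← ad_mul, ← ad_mul]
  congr 2
  group

theorem ad_ne_zero (g : YY D p) {v : D.Idx → KK p} (hv : v ≠ 0) : ad D p g v ≠ 0 := fun h =>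
  hv ((adE g).injective (h.trans (map_zero _).symm))

/-- **[MIX]** common eigenvectors with eigenvalues `(a, b)` and `(a⁻¹, b⁻¹)`, `a, b ≠ 1` -/
theorem mix (hp : IsType D l M) (hD : Typ D) {y z : YY D p} (h : Tp p y z) (y1 : y ≠ 1) (z1 : z ≠ 1) :
    ∃ (a b : KK p) (v w : D.Idx → KK p), a ≠ 1 ∧ b ≠ 1 ∧ v ≠ 0 ∧ w ≠ 0 ∧ ad D p y v = a • v ∧ ad D p z v = b • v ∧
      ad D p y w = a⁻¹ • w ∧ ad D p z w = b⁻¹ • w := by
  obtain ⟨g, hy, hz⟩ := h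
  obtain ⟨s, h1, h2⟩ := mix_T (hp := hp) hD hy hz (fun e => y1 (conj_eq_one_iff.1 e)) (fun e => z1 (conj_eq_one_iff.1 e))
  obtain ⟨s', hs', e⟩ := (isRoot_iff hp M.toCoxeterSystem _).1 (isRoot_vec hp M.toCoxeterSystem s.2).neg
  have n0 : ∀ j : D.Idx, (Pi.single j 1 : D.Idx → KK p) ≠ 0 := fun j e => by
    have := congrFun e j
    rw [Pi.single_eq_same] at this
    exact one_ne_zero this
  refine ⟨_, _, ad D p g⁻¹ (Pi.single (Sum.inr s) 1), ad D p g⁻¹ (Pi.single (Sum.inr ⟨s', hs'⟩) 1), h1, h2,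
    ad_ne_zero _ (n0 _), ad_ne_zero _ (n0 _), ad_of_conj (ad_single hy _), ad_of_conj (ad_single hz _),
    ad_of_conj ?_, ad_of_conj ?_⟩
  · rw [ad_single (hp := hp) hy, ← (isMC_cX hp hy).neg, ← e]
    rfl
  · rw [ad_single (hp := hp) hz, ← (isMC_cX hp hz).neg, ← e]
    rfl

/-- **[CE]** the order of the centralizer in terms of the fixed space -/
theorem card_cen_le {e : ℕ} {σ : MulAut (YY D p)} {g : (Fin l → ℤ) ≃+ (Fin l → ℤ)} (he : 0 < e) (hσ : IsFrob p e σ)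
    (Φ : Fr M.toCoxeterSystem hp.isCartan (TT D (KK p)) (XX D l (KK p)) σ g) {y : YY D p} (hy : σ y = y)
    (h1 : (orderOf y).Prime) (h2 : orderOf y ≠ p) {n : ℕ} (hn : dd p y ≤ l + n) :
    Nat.card ↥(DL.fix σ ⊓ Subgroup.centralizer {y}) ≤ H931.KC.nmk D l * ((p ^ e) ^ n * (p ^ e + 1) ^ l) := by
  obtain ⟨x, σ', w, ζ, c, c0, S, h⟩ := SB.Exc.CI.exists_sit (hp := hp) he hσ Φ hy h1 h2
  rw [h]
  exact S.card_le (by rwa [dd_conj])

end Cfsg.Agent.TH.Ex.Mx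
end

private theorem dce_90a98c30fcd8 : _root_.True := by
  try have : _root_.True := by simp only [_root_.Cfsg.Agent.TH.Ex.Mu.Ten.ps.eq_def]
  try have : _root_.True := by simp only [_root_.Cfsg.Agent.TH.Ex.Mu.Ten.ps.eq_2]
  try have : _root_.True := by simp only [_root_.Cfsg.Agent.TH.Ex.Mu.Ten.ps.eq_1]
  try have : _root_.True := by simp only [_root_.Cfsg.Agent.TH.Ex.Mu.Ten.ps.congr_simp]
  try have : _root_.True := by simp only [_root_.Representation.subrepresentation.congr_simp]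
  exact _root_.True.intro
end
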